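import Mathlib
import Cfsg.Agent.S0144
import Cfsg.Agent.Lib.Transfer.Basic

/-!
# Finite groups with four automorphism orbits: element counting

If a non-solvable finite group has four orbits under its automorphism group then all nontrivial
elements have prime order (three primes) and all their centralizers are Sylow subgroups.
-/

set_option autoImplicit false

namespace CfsgLib.FourOrbit

open Subgroup

variable {G : Type*} [Group G] [Finite G]

/-- Centralizers of nontrivial elements are Sylow subgroups for the order of the element. -/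
def CentSylow (G : Type*) [Group G] : Prop :=
  ∀ x : G, x ≠ 1 → (orderOf x).Prime ∧
    ∃ P : Sylow (orderOf x) G, (P : Subgroup G) = centralizer ({x} : Set G)

theorem orderOf_of_mem_pgroup {p : ℕ} [hp : Fact p.Prime] (hC : CentSylow G) {H : Subgroup G}
    (hH : IsPGroup p H) {x : G} (hx : x ∈ H) (hx1 : x ≠ 1) : orderOf x = p := by
  obtain ⟨k, hk⟩ := IsPGroup.iff_orderOf.mp hH ⟨x, hx⟩
  rw [Subgroup.orderOf_mk] at hk
  have h := (hC x hx1).1
  rw [hk] at h ⊢
  cases k with
  | zero => simp at h; exact absurd h Nat.not_prime_one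
  | succ k => rcases Nat.eq_zero_or_pos k with rfl | hk0
              · simp
              · exact absurd h (Nat.Prime.not_prime_pow (by omega))

theorem exists_sylow_eq (hC : CentSylow G) {p : ℕ} {x : G} (hp : p.Prime) (hx : orderOf x = p) :
    ∃ P : Sylow p G, (P : Subgroup G) = centralizer ({x} : Set G) := by
  subst hx
  exact (hC x (fun h => by rw [h, orderOf_one] at hp; exact Nat.not_prime_one hp)).2

theorem isPGroup_centralizer (hC : CentSylow G) {p : ℕ} {x : G} (hp : p.Prime)
    (hx : orderOf x = p) : IsPGroup p (centralizer ({x} : Set G)) := by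
  obtain ⟨P, hP⟩ := exists_sylow_eq hC hp hx
  rw [← hP]; exact P.2

/-- A central element of a Sylow subgroup has this subgroup as centralizer. -/
theorem centralizer_eq_of_central (hC : CentSylow G) {p : ℕ} [hp : Fact p.Prime] (P : Sylow p G)
    {x : G} (hxP : x ∈ (P : Subgroup G)) (hx1 : x ≠ 1)
    (hc : ∀ y ∈ (P : Subgroup G), y * x = x * y) :
    centralizer ({x} : Set G) = (P : Subgroup G) :=
  P.3 (isPGroup_centralizer hC hp.out (orderOf_of_mem_pgroup hC P.2 hxP hx1))
    (fun y hy => mem_centralizer_singleton_iff.mpr (hc y hy))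

/-- Every element of order `p` lies in the centre of exactly one Sylow `p`-subgroup. -/
noncomputable def equivSigmaCenter (hC : CentSylow G) (p : ℕ) [hp : Fact p.Prime] :
    {x : G // orderOf x = p} ≃ Σ P : Sylow p G, {z : center P // z ≠ 1} :=
  Equiv.symm <| Equiv.ofBijective
    (fun s => ⟨((s.2.1 : (s.1 : Subgroup G)) : G),
      orderOf_of_mem_pgroup hC s.1.2 (s.2.1 : (s.1 : Subgroup G)).2
        (fun h => s.2.2 (Subtype.ext (Subtype.ext h)))⟩) (by
    have key : ∀ s : Σ P : Sylow p G, {z : center P // z ≠ 1},
        centralizer ({((s.2.1 : (s.1 : Subgroup G)) : G)} : Set G) = (s.1 : Subgroup G) := by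
      intro s
      refine centralizer_eq_of_central hC s.1 (s.2.1 : (s.1 : Subgroup G)).2
        (fun h => s.2.2 (Subtype.ext (Subtype.ext h))) fun y hy => ?_
      exact congrArg Subtype.val (mem_center_iff.mp s.2.1.2 ⟨y, hy⟩)
    constructor
    · rintro ⟨P, z⟩ ⟨Q, w⟩ h
      have h' := congrArg Subtype.val h
      simp only at h'
      obtain rfl : P = Q := Sylow.ext (by rw [← key ⟨P, z⟩, ← key ⟨Q, w⟩]; simp only [h'])
      exact Sigma.ext rfl (heq_of_eq (Subtype.ext (Subtype.ext (Subtype.ext h'))))
    · rintro ⟨x, hx⟩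
      obtain ⟨P, hP⟩ := exists_sylow_eq hC hp.out hx
      have hxP : x ∈ (P : Subgroup G) := by rw [hP, mem_centralizer_singleton_iff]
      refine ⟨⟨P, ⟨⟨⟨x, hxP⟩, mem_center_iff.mpr fun y => Subtype.ext ?_⟩, ?_⟩⟩, rfl⟩
      · exact mem_centralizer_singleton_iff.mp (hP ▸ y.2)
      · intro h
        have : x = 1 := congrArg (fun z : center P => ((z : (P : Subgroup G)) : G)) h
        rw [this, orderOf_one] at hx
        exact hp.out.ne_one hx.symm)

theorem card_center_sylow {p : ℕ} [Fact p.Prime] (P Q : Sylow p G) :
    Nat.card (center P) = Nat.card (center Q) :=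
  Nat.card_congr (Subgroup.centerCongr (P.equiv Q)).toEquiv

theorem card_orderOf_eq (hC : CentSylow G) {p : ℕ} [Fact p.Prime] (P : Sylow p G) :
    Nat.card {x : G // orderOf x = p} = Nat.card (Sylow p G) * (Nat.card (center P) - 1) := by
  classical
  haveI := Fintype.ofFinite (Sylow p G)
  rw [Nat.card_congr (equivSigmaCenter hC p), Nat.card_sigma, Nat.card_eq_fintype_card]
  rw [Finset.sum_congr rfl (fun Q _ => ?_), Finset.sum_const, Finset.card_univ, smul_eq_mul]
  rw [card_center_sylow P Q]
  haveI := Fintype.ofFinite (center Q)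
  rw [Nat.card_eq_fintype_card, Nat.card_eq_fintype_card, Fintype.card_subtype_compl,
    Fintype.card_subtype_eq]

theorem card_sylow_mul (P : Subgroup G) :
    (normalizer (P : Set G)).index * (P.relIndex (normalizer (P : Set G))) * Nat.card P
      = Nat.card G := by
  rw [mul_comm (normalizer (P : Set G)).index, relIndex_mul_index le_normalizer,
    mul_comm, card_mul_index]

theorem isSolvable_of_two_primes {H : Type*} [Group H] [Finite H] {q r : ℕ} (hq : q.Prime)
    (hr : r.Prime) (hqr : q ≠ r) (hprimes : ∀ s : ℕ, s.Prime → s ∣ Nat.card H → s = q ∨ s = r) :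
    Group.IsSolvable H := by
  refine Cfsg.Agent.S0144.result q r ((Nat.card H).factorization q)
    ((Nat.card H).factorization r) hq hr ?_
  conv_lhs => rw [← Nat.prod_factorization_pow_eq_self (Nat.card_pos (α := H)).ne',
    Nat.prod_factorization_eq_prod_primeFactors]
  rw [Finset.prod_subset (s₂ := ({q, r} : Finset ℕ)) ?_ ?_, Finset.prod_pair hqr]
  · intro s hs
    rcases hprimes s (Nat.prime_of_mem_primeFactors hs) (Nat.dvd_of_mem_primeFactors hs) with
      e | e <;> simp [e]
  · intro s _ hs
    have : (Nat.card H).factorization s = 0 := Finsupp.notMem_support_iff.mp hs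
    rw [this, pow_zero]

/-- A group with a normal Sylow-complement for one of its three primes is solvable. -/
theorem isSolvable_of_complement {p q r : ℕ} [hp : Fact p.Prime] (hq : q.Prime) (hr : r.Prime)
    (hqr : q ≠ r) (hprimes : ∀ s : ℕ, s.Prime → s ∣ Nat.card G → s = p ∨ s = q ∨ s = r)
    (h : Cfsg.HasNormalPComplement p G) : Group.IsSolvable G := by
  obtain ⟨P, N, hN, hc⟩ := h
  have hnd : ¬ p ∣ Nat.card N := hc.index_eq_card ▸ P.not_dvd_index
  haveI : Group.IsSolvable N := isSolvable_of_two_primes hq hr hqr fun s hs hd => by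
    rcases hprimes s hs (hd.trans (card_subgroup_dvd_card N)) with e | e
    · exact absurd (e ▸ hd) hnd
    · exact e
  haveI := hN
  haveI : Group.IsSolvable (P : Subgroup G) := by
    haveI := P.2.isNilpotent
    infer_instance
  haveI : Group.IsSolvable (G ⧸ N) :=
    solvable_of_surjective (f := (hc.symm.QuotientMulEquiv).symm.toMonoidHom)
      (hc.symm.QuotientMulEquiv).symm.surjective
  exact solvable_of_ker_le_range N.subtype (QuotientGroup.mk' N) (by simp)

/-- If all elements of order `p` have centralizers of order `n`, their number times `n` is a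
multiple of the group order. -/
theorem card_dvd_card_orderOf_mul (p n : ℕ)
    (h : ∀ x : G, orderOf x = p → Nat.card (centralizer ({x} : Set G)) = n) :
    Nat.card G ∣ Nat.card {x : G // orderOf x = p} * n := by
  classical
  haveI := Fintype.ofFinite G
  rw [Nat.card_eq_fintype_card (α := {x : G // orderOf x = p}), Fintype.card_subtype]
  set T := Finset.univ.filter (fun x : G => orderOf x = p) with hT
  rw [Finset.card_eq_sum_card_fiberwise (s := T) (t := T.image ConjClasses.mk)
    (f := ConjClasses.mk) (fun x hx => Finset.mem_coe.mpr (Finset.mem_image_of_mem _ hx)),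
    Finset.sum_mul]
  refine Finset.dvd_sum fun c hc => ?_
  obtain ⟨y, hy, rfl⟩ := Finset.mem_image.mp hc
  have hyp : orderOf y = p := (Finset.mem_filter.mp hy).2
  have hset : ((T.filter fun x => ConjClasses.mk x = ConjClasses.mk y : Finset G) : Set G)
      = MulAction.orbit (ConjAct G) y := by
    ext x
    simp only [Finset.coe_filter, Set.mem_setOf_eq, hT, Finset.mem_filter, Finset.mem_univ,
      true_and, ConjClasses.mk_eq_mk_iff_isConj, ConjAct.mem_orbit_conjAct]
    refine ⟨fun h => h.2, fun hh => ⟨?_, hh⟩⟩
    obtain ⟨g, hg⟩ := isConj_iff.mp hh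
    rw [← hyp, ← hg]
    exact (orderOf_injective (MulAut.conj g).toMonoidHom (MulAut.conj g).injective x).symm
  rw [← Set.ncard_coe_finset, hset, ← Nat.card_coe_set_eq, ← h y hyp,
    nat_card_centralizer_nat_card_stabilizer, Nat.card_eq_fintype_card, Nat.card_eq_fintype_card,
    Nat.card_eq_fintype_card, MulAction.card_orbit_mul_card_stabilizer_eq_card_group,
    ConjAct.card]

theorem odd_weight {p : ℕ} [hp : Fact p.Prime] (hC : CentSylow G) (hodd : Odd (Nat.card G))
    (hnc : ¬ Cfsg.HasNormalPComplement p G) (P : Sylow p G) :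
    3 * Nat.card {x : G // orderOf x = p} + (P : Subgroup G).index ≤ Nat.card G := by
  rw [card_orderOf_eq hC P]
  set N := normalizer ((P : Subgroup G) : Set G) with hN
  set e := (P : Subgroup G).relIndex N with he
  set n := Nat.card (Sylow p G)
  set a := Nat.card (P : Subgroup G)
  set z := Nat.card (center P)
  have hcard : N.index * e * a = Nat.card G := card_sylow_mul _
  have hn : n = N.index := P.card_eq_index_normalizer
  have hidx : (P : Subgroup G).index = n * e := by
    rw [hn, mul_comm, he, relIndex_mul_index le_normalizer]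
  have hza : z ≤ a := card_le_card_group _
  have hz1 : 1 ≤ z := Nat.card_pos
  have key : 3 * (z - 1) + e ≤ e * a := by
    rcases le_or_gt 3 e with he3 | he3
    · calc 3 * (z - 1) + e ≤ e * (z - 1) + e :=
            Nat.add_le_add_right (Nat.mul_le_mul_right _ he3) _
        _ = e * z := by
            obtain ⟨w, hw⟩ := Nat.exists_eq_add_of_le hz1
            rw [hw]; simp [Nat.mul_add]; ring
        _ ≤ e * a := Nat.mul_le_mul_left _ hza
    · have heo : Odd e := hodd.of_dvd_nat (hcard ▸ ⟨N.index * a, by ring⟩)
      have he1 : e = 1 := by obtain ⟨k, hk⟩ := heo; omega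
      have hNP : N = (P : Subgroup G) := le_antisymm (relIndex_eq_one.mp he1) le_normalizer
      have hzne : z ≠ a := by
        intro hza'
        refine hnc (CfsgLib.Transfer.hasNormalPComplement_of_normalizer_le_centralizer P ?_)
        intro x hx
        rw [mem_centralizer_iff]
        intro y hy
        have hy' : (⟨y, hy⟩ : (P : Subgroup G)) ∈ center P := by
          rw [eq_top_of_card_eq (center P) hza']; exact mem_top _
        have hxP : x ∈ (P : Subgroup G) := hNP ▸ hx
        exact (congrArg Subtype.val (mem_center_iff.mp hy' ⟨x, hxP⟩)).symm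
      obtain ⟨m, hm⟩ := card_subgroup_dvd_card (center P)
      have hm1 : m ≠ 1 := fun h => hzne (by rw [show a = z * m from hm, h, mul_one])
      have hodda : Odd m := (hodd.of_dvd_nat (hcard ▸ ⟨N.index * e, mul_comm _ _⟩ : a ∣ _)).of_dvd_nat
        (⟨z, hm.trans (mul_comm z m)⟩ : m ∣ a)
      have hm3 : 3 ≤ m := by obtain ⟨k, hk⟩ := hodda; omega
      have h3z : 3 * z ≤ a := by rw [show a = z * m from hm, mul_comm]; exact Nat.mul_le_mul_left _ hm3
      rw [he1]; omega
  rw [hidx, ← hcard, ← hn]
  calc 3 * (n * (z - 1)) + n * e = n * (3 * (z - 1) + e) := by ring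
    _ ≤ n * (e * a) := Nat.mul_le_mul_left _ key
    _ = n * e * a := by ring

end CfsgLib.FourOrbit
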