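import Mathlib
import Cfsg.Agent.Lib.FourOrbit.Basic

/-!
# Involutions and real elements in groups whose centralizers are Sylow subgroups
-/

set_option autoImplicit false

namespace CfsgLib.FourOrbit

open Subgroup

variable {G : Type*} [Group G] [Finite G]

theorem eq_one_of_two_of_pgroup {p : ℕ} [hp : Fact p.Prime] (hp2 : p ≠ 2) (hC : CentSylow G)
    {A B : Subgroup G} (hA : IsPGroup 2 A) (hB : IsPGroup p B) {x : G} (h1 : x ∈ A) (h2 : x ∈ B) :
    x = 1 := by
  haveI := Fact.mk Nat.prime_two
  by_contra h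
  exact hp2 ((orderOf_of_mem_pgroup hC hB h2 h).symm.trans (orderOf_of_mem_pgroup hC hA h1 h))

theorem mul_self_of_sylow_two (hC : CentSylow G) (S : Sylow 2 G) {x : G}
    (hx : x ∈ (S : Subgroup G)) : x * x = 1 := by
  haveI := Fact.mk Nat.prime_two
  by_cases h : x = 1
  · simp [h]
  · have := orderOf_of_mem_pgroup hC S.2 hx h
    rw [← pow_two, ← this, pow_orderOf_eq_one]

theorem commute_of_sylow_two (hC : CentSylow G) (S : Sylow 2 G) {x y : G}
    (hx : x ∈ (S : Subgroup G)) (hy : y ∈ (S : Subgroup G)) : x * y = y * x := by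
  have h1 := inv_eq_of_mul_eq_one_right (mul_self_of_sylow_two hC S hx)
  have h2 := inv_eq_of_mul_eq_one_right (mul_self_of_sylow_two hC S hy)
  have h3 := inv_eq_of_mul_eq_one_right (mul_self_of_sylow_two hC S ((S : Subgroup G).mul_mem hx hy))
  rw [← h3, mul_inv_rev, h1, h2]

theorem centralizer_eq_sylow_two (hC : CentSylow G) (S : Sylow 2 G) {x : G}
    (hx : x ∈ (S : Subgroup G)) (hx1 : x ≠ 1) :
    centralizer ({x} : Set G) = (S : Subgroup G) :=
  haveI := Fact.mk Nat.prime_two
  centralizer_eq_of_central hC S hx hx1 fun _ hy => commute_of_sylow_two hC S hy hx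

omit [Finite G] in
theorem conj_mem_centralizer {x t c : G} (htt : t * t = 1) (hinv : t * x * t = x⁻¹)
    (hc : c ∈ centralizer ({x} : Set G)) : t * c * t ∈ centralizer ({x} : Set G) := by
  have hti : t⁻¹ = t := inv_eq_of_mul_eq_one_right htt
  rw [mem_centralizer_singleton_iff] at hc ⊢
  have hc' : c * x⁻¹ = x⁻¹ * c := (Commute.inv_right (show Commute c x from hc)).eq
  have hx' : t * x = x⁻¹ * t := by
    calc t * x = t * x * (t * t) := by rw [htt, mul_one]
      _ = x⁻¹ * t := by rw [← hinv]; group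
  have hx'' : t * x⁻¹ = x * t := by
    calc t * x⁻¹ = t * (t * x * t) := by rw [hinv]
      _ = (t * t) * x * t := by group
      _ = x * t := by rw [htt, one_mul]
  calc t * c * t * x = t * c * (t * x) := by group
    _ = t * (c * x⁻¹) * t := by rw [hx']; group
    _ = (t * x⁻¹) * c * t := by rw [hc']; group
    _ = x * (t * c * t) := by rw [hx'']; group

/-- An involution acting without fixed points on a finite subgroup inverts it. -/
theorem inverts_of_fpf {T : Subgroup G} {z : G} (hz : z * z = 1)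
    (hmem : ∀ v ∈ T, z * v * z ∈ T) (h : ∀ v ∈ T, z * v = v * z → v = 1) :
    ∀ v ∈ T, z * v * z = v⁻¹ := by
  have hzi : z⁻¹ = z := inv_eq_of_mul_eq_one_right hz
  let f : T → T := fun v => ⟨(v : G)⁻¹ * (z * v * z), T.mul_mem (T.inv_mem v.2) (hmem v v.2)⟩
  have hinj : Function.Injective f := by
    intro v w hvw
    have e : (v : G)⁻¹ * (z * v * z) = (w : G)⁻¹ * (z * w * z) := congrArg Subtype.val hvw
    have e2 : z * w * z = (w : G) * (v : G)⁻¹ * (z * v * z) := by
      rw [mul_assoc ((w : G)) _ _, e]; group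
    have h1 := h ((w : G) * (v : G)⁻¹) (T.mul_mem w.2 (T.inv_mem v.2)) (by
      calc z * ((w : G) * (v : G)⁻¹) = (z * w * z) * z * (v : G)⁻¹ := by
            rw [mul_assoc _ z z, hz, mul_one]; group
        _ = (w : G) * (v : G)⁻¹ * (z * v * z) * z * (v : G)⁻¹ := by rw [e2]
        _ = (w : G) * (v : G)⁻¹ * z * v * (z * z) * (v : G)⁻¹ := by group
        _ = _ := by rw [hz]; group)
    exact Subtype.ext (mul_inv_eq_one.mp h1).symm
  intro u hu
  obtain ⟨⟨v, hv⟩, hvu⟩ := Finite.surjective_of_injective hinj ⟨u, hu⟩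
  have e : v⁻¹ * (z * v * z) = u := congrArg Subtype.val hvu
  rw [← e]
  calc z * (v⁻¹ * (z * v * z)) * z = z * v⁻¹ * z * v * (z * z) := by group
    _ = z * v⁻¹ * z * v := by rw [hz, mul_one]
    _ = (v⁻¹ * (z * v * z))⁻¹ := by rw [mul_inv_rev, mul_inv_rev, mul_inv_rev, inv_inv, hzi]; group

omit [Finite G] in
theorem mul_mem_centralizer {x t u : G} (htt : t * t = 1) (huu : u * u = 1)
    (ht : t * x * t = x⁻¹) (hu : u * x * u = x⁻¹) : t * u ∈ centralizer ({x} : Set G) := by
  rw [mem_centralizer_singleton_iff]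
  have hux : u * x = x⁻¹ * u := by rw [← hu, mul_assoc (u * x), huu, mul_one]
  have htx : t * x⁻¹ = x * t := by
    calc t * x⁻¹ = t * (t * x * t) := by rw [ht]
      _ = (t * t) * x * t := by group
      _ = x * t := by rw [htt, one_mul]
  rw [mul_assoc, hux, ← mul_assoc, htx, mul_assoc]

/-- A real element of odd order: the data of an inverting involution. -/
structure RealData (p : ℕ) (x t : G) : Prop where
  ordx : orderOf x = p
  ordt : orderOf t = 2
  inv : t * x * t = x⁻¹

variable {p : ℕ} [hp : Fact p.Prime] {x t : G}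

theorem RealData.tt (h : RealData p x t) : t * t = 1 := by
  rw [← pow_two, ← h.ordt, pow_orderOf_eq_one]

theorem RealData.inverts (h : RealData p x t) (hp2 : p ≠ 2) (hC : CentSylow G) :
    ∀ c ∈ centralizer ({x} : Set G), t * c * t = c⁻¹ :=
  inverts_of_fpf h.tt (fun _ hv => conj_mem_centralizer h.tt h.inv hv) fun v hv htv =>
    eq_one_of_two_of_pgroup hp2 hC (isPGroup_centralizer hC Nat.prime_two h.ordt)
      (isPGroup_centralizer hC hp.out h.ordx) (mem_centralizer_singleton_iff.mpr htv.symm) hv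

theorem RealData.commute (h : RealData p x t) (hp2 : p ≠ 2) (hC : CentSylow G) {a b : G}
    (ha : a ∈ centralizer ({x} : Set G)) (hb : b ∈ centralizer ({x} : Set G)) : a * b = b * a := by
  have hab := h.inverts hp2 hC (a * b) (mul_mem ha hb)
  have h3 : t * (a * b) * t = a⁻¹ * b⁻¹ := by
    calc t * (a * b) * t = t * a * (t * t) * b * t := by rw [h.tt]; group
      _ = (t * a * t) * (t * b * t) := by group
      _ = _ := by rw [h.inverts hp2 hC a ha, h.inverts hp2 hC b hb]
  have := hab.symm.trans h3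
  rw [mul_inv_rev] at this
  exact inv_injective (by rw [mul_inv_rev, mul_inv_rev]; exact this)

theorem RealData.center_eq_top (h : RealData p x t) (hp2 : p ≠ 2) (hC : CentSylow G)
    (P : Sylow p G) (hP : (P : Subgroup G) = centralizer ({x} : Set G)) :
    Nat.card (center P) = Nat.card (P : Subgroup G) := by
  have : center P = ⊤ := top_unique fun a _ => mem_center_iff.mpr fun b => Subtype.ext
    (h.commute hp2 hC (hP ▸ b.2) (hP ▸ a.2))
  rw [this, card_top]

theorem RealData.inverts_coset (h : RealData p x t) (hp2 : p ≠ 2) (hC : CentSylow G) (u : G) :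
    orderOf (u * x) = 2 ∧ orderOf u = 2 ↔ t * u ∈ centralizer ({x} : Set G) := by
  haveI := Fact.mk Nat.prime_two
  have htt := h.tt
  have hti : t⁻¹ = t := inv_eq_of_mul_eq_one_right htt
  constructor
  · rintro ⟨hux, hu⟩
    have huu : u * u = 1 := by rw [← pow_two, ← hu, pow_orderOf_eq_one]
    have hux' : u * x * (u * x) = 1 := by rw [← pow_two, ← hux, pow_orderOf_eq_one]
    have hui : u * x * u = x⁻¹ := eq_inv_of_mul_eq_one_left (by rw [mul_assoc _ u x]; exact hux')
    exact mul_mem_centralizer htt huu h.inv hui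
  · intro hc
    have hxC : x ∈ centralizer ({x} : Set G) := mem_centralizer_singleton_iff.mpr rfl
    have key : ∀ c ∈ centralizer ({x} : Set G), orderOf (t * c) = 2 := by
      intro c hc
      refine orderOf_eq_prime ?_ ?_
      · rw [pow_two, show t * c * (t * c) = t * c * t * c by group, h.inverts hp2 hC c hc,
          inv_mul_cancel]
      · intro h1
        have : t ∈ centralizer ({x} : Set G) := by
          rw [eq_inv_of_mul_eq_one_left h1]; exact inv_mem hc
        have h1' := eq_one_of_two_of_pgroup hp2 hC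
          (isPGroup_centralizer hC Nat.prime_two h.ordt) (isPGroup_centralizer hC hp.out h.ordx)
          (mem_centralizer_singleton_iff.mpr rfl) this
        have := h.ordt; rw [h1', orderOf_one] at this; omega
    have e : ∀ w : G, t * (t * w) = w := fun w => by rw [← mul_assoc, htt, one_mul]
    refine ⟨?_, ?_⟩
    · rw [← e (u * x), ← mul_assoc t u x]; exact key _ (mul_mem hc hxC)
    · rw [← e u]; exact key _ hc

theorem RealData.card_inverting (h : RealData p x t) (hp2 : p ≠ 2) (hC : CentSylow G) :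
    Nat.card {u : G // orderOf (u * x) = 2 ∧ orderOf u = 2} =
      Nat.card (centralizer ({x} : Set G)) :=
  Nat.card_congr ((Equiv.mulLeft t).subtypeEquiv fun u => h.inverts_coset hp2 hC u)

theorem RealData.relIndex (h : RealData p x t) (hp2 : p ≠ 2) (hC : CentSylow G) (P : Sylow p G)
    (hP : (P : Subgroup G) = centralizer ({x} : Set G)) :
    (P : Subgroup G).relIndex (normalizer ((P : Subgroup G) : Set G)) = 2 := by
  haveI := Fact.mk Nat.prime_two
  have htt := h.tt
  have hti : t⁻¹ = t := inv_eq_of_mul_eq_one_right htt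
  have hinv : ∀ c ∈ (P : Subgroup G), t * c * t = c⁻¹ := fun c hc =>
    h.inverts hp2 hC c (hP ▸ hc)
  have hPC := isPGroup_centralizer hC hp.out h.ordx
  obtain ⟨S, hS⟩ := exists_sylow_eq hC Nat.prime_two h.ordt
  have ht : t ∉ (P : Subgroup G) := fun hm => by
    have h1 := eq_one_of_two_of_pgroup hp2 hC S.2 P.2
      (hS ▸ mem_centralizer_singleton_iff.mpr rfl) hm
    have := h.ordt; rw [h1, orderOf_one] at this; omega
  have htN : t ∈ normalizer ((P : Subgroup G) : Set G) := by
    rw [mem_normalizer_iff]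
    intro c
    rw [hti]
    refine ⟨fun hc => by rw [hinv c hc]; exact inv_mem hc, fun hc => ?_⟩
    have := inv_mem hc
    rw [← hinv _ hc] at this
    simpa [← mul_assoc, htt, mul_assoc _ t t] using this
  rw [relIndex_eq_two_iff_exists_notMem_and]
  refine ⟨t, htN, ht, fun g hg => ?_⟩
  have hgi : ∀ c ∈ (P : Subgroup G), (g * t * g⁻¹) * c * (g * t * g⁻¹) = c⁻¹ := by
    intro c hc
    have hc' : g⁻¹ * c * g ∈ (P : Subgroup G) := by
      have := (mem_normalizer_iff.mp (inv_mem hg) c).mp hc
      simpa using this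
    calc g * t * g⁻¹ * c * (g * t * g⁻¹) = g * (t * (g⁻¹ * c * g) * t) * g⁻¹ := by group
      _ = _ := by rw [hinv _ hc']; group
  have hxP : x ∈ (P : Subgroup G) := hP ▸ mem_centralizer_singleton_iff.mpr rfl
  -- `τ = t (g t g⁻¹)` lies in the abelian group of odd order
  have hτ : t * (g * t * g⁻¹) ∈ (P : Subgroup G) := by
    rw [hP]
    refine mul_mem_centralizer htt ?_ h.inv (hgi x hxP)
    calc g * t * g⁻¹ * (g * t * g⁻¹) = g * (t * t) * g⁻¹ := by group
      _ = 1 := by rw [htt]; group
  obtain ⟨k, hk⟩ : ∃ k, (Nat.card (P : Subgroup G)) = 2 * k + 1 := by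
    obtain ⟨n, hn⟩ := IsPGroup.iff_card.mp P.2
    rcases hp.out.eq_two_or_odd with e | e
    · exact absurd e hp2
    · obtain ⟨k, hk⟩ := (Nat.odd_iff.mpr e).pow (n := n)
      exact ⟨k, hn.trans hk⟩
  set τ := t * (g * t * g⁻¹) with hτdef
  set σ := τ ^ (k + 1) with hσ
  have hσP : σ ∈ (P : Subgroup G) := pow_mem hτ _
  have hσ2 : σ * σ = τ := by
    have h1 : τ ^ Nat.card (P : Subgroup G) = 1 := by
      have h2 : (⟨τ, hτ⟩ : (P : Subgroup G)) ^ Nat.card (P : Subgroup G) = 1 := pow_card_eq_one'
      exact congrArg Subtype.val h2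
    rw [hσ, ← pow_add, show k + 1 + (k + 1) = (2 * k + 1) + 1 by omega, ← hk, pow_succ, h1, one_mul]
  have hgt : g * t * g⁻¹ = σ⁻¹ * t * σ := by
    have e1 : σ⁻¹ * t = t * σ := by rw [← hinv σ hσP, mul_assoc, htt, mul_one]
    rw [e1, mul_assoc t σ σ, hσ2, hτdef, ← mul_assoc, htt, one_mul]
  set w := σ * g with hw
  have hwt : w * t = t * w := by
    calc w * t = σ * (g * t * g⁻¹) * g := by rw [hw]; group
      _ = _ := by rw [hgt, hw]; group
  have hwS : w ∈ (S : Subgroup G) := hS ▸ mem_centralizer_singleton_iff.mpr hwt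
  have hwN : w ∈ normalizer ((P : Subgroup G) : Set G) := mul_mem (le_normalizer hσP) hg
  have hfin : w = 1 ∨ w = t := by
    by_contra hne
    push Not at hne
    have hww := mul_self_of_sylow_two hC S hwS
    have hwi : w⁻¹ = w := inv_eq_of_mul_eq_one_right hww
    have hwinv := inverts_of_fpf (T := (P : Subgroup G)) hww
      (fun v hv => by simpa [hwi] using (mem_normalizer_iff.mp hwN v).mp hv)
      (fun v hv hwv => eq_one_of_two_of_pgroup hp2 hC
        (isPGroup_centralizer hC Nat.prime_two (orderOf_of_mem_pgroup hC S.2 hwS hne.1)) P.2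
        (mem_centralizer_singleton_iff.mpr hwv.symm) hv)
    have hwtP : t * w ∈ (P : Subgroup G) :=
      hP ▸ mul_mem_centralizer htt hww h.inv (hwinv x hxP)
    have h1 := eq_one_of_two_of_pgroup hp2 hC S.2 P.2
      (mul_mem (hS ▸ mem_centralizer_singleton_iff.mpr rfl) hwS) hwtP
    exact hne.2 (by rw [← one_mul w, ← htt, mul_assoc, h1, mul_one])
  rcases hfin with h1 | h1
  · right
    rw [eq_inv_of_mul_eq_one_right h1]; exact inv_mem hσP
  · left
    have : g * t = σ⁻¹ := by
      rw [show g = σ⁻¹ * t by rw [← h1, hw]; group, mul_assoc, htt, mul_one]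
    rw [this]; exact inv_mem hσP

end CfsgLib.FourOrbit
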