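import Mathlib

/-!
# The arithmetic of the four-orbit counting equations
-/

set_option autoImplicit false

namespace CfsgLib.FourOrbit

/-- One real odd prime only: the equations are contradictory. -/
theorem one_real_false {q r k a b m e : ℕ} (hq : q.Prime) (hq2 : q ≠ 2) (ha : 1 ≤ a)
    (hr : r.Prime) (hr2 : r ≠ 2) (hb : 1 ≤ b) (hk : 2 ≤ k) (hme : 2 ^ k = m * e + 1)
    (hediv : e ∣ q ^ a * r ^ b)
    (heq : 2 * m * (m * (q ^ a * r ^ b) - m * e) = 2 ^ k * (q ^ a - 1)) : False := by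
  have hq3 : 3 ≤ q ^ a := le_trans (by have := hq.two_le; omega) (Nat.le_self_pow (by omega) q)
  have hk4 : 4 ≤ 2 ^ k := le_trans (by norm_num) (Nat.pow_le_pow_right two_pos hk)
  have hm1 : 1 ≤ m := by
    rcases Nat.eq_zero_or_pos m with h | h
    · subst h; simp at hme; omega
    · exact h
  by_cases hqe : q ∣ e
  · have h1 : q ∣ 2 ^ k * (q ^ a - 1) := by
      rw [← heq, ← Nat.mul_sub]
      exact Dvd.dvd.mul_left (Dvd.dvd.mul_left
        (Nat.dvd_sub (dvd_mul_of_dvd_left (dvd_pow_self q (by omega)) _) hqe) _) _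
    have h2 : q ∣ q ^ a - 1 := by
      refine (Nat.Coprime.pow_right k ?_).dvd_of_dvd_mul_left h1
      exact (Nat.coprime_primes hq Nat.prime_two).mpr hq2
    have h3 : q ∣ q ^ a - (q ^ a - 1) := Nat.dvd_sub (dvd_pow_self q (by omega)) h2
    rw [show q ^ a - (q ^ a - 1) = 1 by omega] at h3
    exact hq.ne_one (Nat.dvd_one.mp h3)
  · have her : e ∣ r ^ b :=
      (Nat.Coprime.pow_right a ((hq.coprime_iff_not_dvd.mpr hqe).symm)).dvd_of_dvd_mul_left hediv
    have hle : e ≤ r ^ b := Nat.le_of_dvd (pow_pos hr.pos b) her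
    have h1 : e * (q ^ a - 1) ≤ q ^ a * r ^ b - e := by
      rw [Nat.mul_sub, mul_one, mul_comm e]
      exact Nat.sub_le_sub_right (Nat.mul_le_mul_left _ hle) _
    have h2 : 2 * m * m * e * (q ^ a - 1) ≤ (m * e + 1) * (q ^ a - 1) := by
      rw [← hme, ← heq, ← Nat.mul_sub]
      calc 2 * m * m * e * (q ^ a - 1) = 2 * m * (m * (e * (q ^ a - 1))) := by ring
        _ ≤ _ := by gcongr
    have h3 : 2 * m * m * e ≤ m * e + 1 := Nat.le_of_mul_le_mul_right h2 (by omega)
    nlinarith [mul_le_mul_of_nonneg_right hm1 (Nat.zero_le (m * e)), hme, hk4]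

/-- Two real odd primes: only the parameters of `A₅` and of order `504` survive. -/
theorem both_real_cases {q r k a b : ℕ} (hq : q.Prime) (hq2 : q ≠ 2) (ha : 1 ≤ a) (hr : r.Prime)
    (hr2 : r ≠ 2) (hb : 1 ≤ b) (hk : 2 ≤ k) (he : 2 ^ k - 1 ∣ q ^ a)
    (heq : 2 * (q ^ a * r ^ b) + 2 = 2 ^ k * (q ^ a + r ^ b)) :
    (k = 2 ∧ q ^ a = 3 ∧ r ^ b = 5) ∨ (k = 3 ∧ q ^ a = 7 ∧ r ^ b = 9) := by
  have hk4 : 4 ≤ 2 ^ k := le_trans (by norm_num) (Nat.pow_le_pow_right two_pos hk)
  obtain ⟨c, hc⟩ := he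
  have hQo : Odd (q ^ a) := (hq.odd_of_ne_two hq2).pow
  have hRo : Odd (r ^ b) := (hr.odd_of_ne_two hr2).pow
  have hR3 : 3 ≤ r ^ b := le_trans (by have := hr.two_le; omega) (Nat.le_self_pow (by omega) r)
  have hSe : Even (2 ^ k) := Nat.even_pow.mpr ⟨even_two, by omega⟩
  obtain ⟨e, he⟩ : ∃ e, 2 ^ k = e + 1 := ⟨2 ^ k - 1, by omega⟩
  rw [he, Nat.add_sub_cancel] at hc
  rw [he] at heq hk4 hSe
  have hQ : q ^ a = e * c := hc
  rw [hQ] at heq hQo
  -- `R ≡ 2` modulo `e`
  have hRle : e + 2 ≤ r ^ b := by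
    by_contra hlt
    push Not at hlt
    have hc1 : 1 ≤ c := by
      rcases Nat.eq_zero_or_pos c with h | h
      · subst h; simp at hQo
      · exact h
    have hd : e ∣ (r ^ b - 2) := by
      refine (Nat.dvd_add_right (dvd_mul_right e (r ^ b + e * c + c))).mp ⟨2 * c * r ^ b, ?_⟩
      have e1 : (e + 1) * (e * c + r ^ b) = e * (r ^ b + e * c + c) + r ^ b := by ring
      have e2 : e * (2 * c * r ^ b) = 2 * (e * c * r ^ b) := by ring
      rw [e2]
      omega
    have h0 : r ^ b - 2 = 0 ∨ e ≤ r ^ b - 2 := by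
      rcases Nat.eq_zero_or_pos (r ^ b - 2) with h | h
      · exact Or.inl h
      · exact Or.inr (Nat.le_of_dvd h hd)
    omega
  have hc1 : c = 1 := by
    by_contra hne
    obtain ⟨d, hd⟩ : Odd c := (Nat.odd_mul.mp hQo).2
    obtain ⟨f, hf⟩ := Nat.exists_eq_add_of_le hRle
    rw [hf, hd] at heq
    rcases Nat.eq_zero_or_pos d with h0 | h0
    · subst h0; exact hne (by omega)
    nlinarith [Nat.mul_le_mul h0 (le_refl (e * f)), Nat.mul_le_mul h0 (le_refl (e * e))]
  subst hc1
  rw [mul_one] at heq hQ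
  have hR : r ^ b = e + 2 := by
    obtain ⟨f, hf⟩ := Nat.exists_eq_add_of_le hRle
    rw [hf] at heq
    nlinarith
  -- `e = 2^k - 1` and `e + 2 = 2^k + 1` are prime powers
  have h3 : q = 3 ∨ r = 3 := by
    have hpd : 3 ∣ e ∨ 3 ∣ e + 2 := by
      have : (2 ^ k) % 3 = 1 ∨ (2 ^ k) % 3 = 2 := by
        rw [Nat.pow_mod]
        clear heq he hQ hR
        induction k with
        | zero => simp
        | succ n ih =>
          rw [pow_succ, Nat.mul_mod]
          rcases Nat.lt_or_ge n 2 with h | h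
          · interval_cases n <;> simp
          · rcases ih h with h' | h' <;> rw [Nat.mod_mod, h'] <;> simp
      rw [he] at this; omega
    rcases hpd with h | h
    · exact Or.inl ((Nat.prime_dvd_prime_iff_eq Nat.prime_three hq).mp
        (Nat.prime_three.dvd_of_dvd_pow (hQ ▸ h))).symm
    · exact Or.inr ((Nat.prime_dvd_prime_iff_eq Nat.prime_three hr).mp
        (Nat.prime_three.dvd_of_dvd_pow (hR ▸ h))).symm
  have h8 : 3 ≤ k → 8 ∣ 2 ^ k := fun h => ⟨2 ^ (k - 3), by rw [show (8 : ℕ) = 2 ^ 3 by norm_num, ← pow_add]; congr 1; omega⟩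
  have hmod : ∀ j : ℕ, 3 ^ j % 8 = if Even j then 1 else 3 := by
    intro j
    induction j with
    | zero => simp
    | succ n ih => rw [pow_succ, Nat.mul_mod, ih]; by_cases h : Even n <;> simp [h, parity_simps]
  rcases h3 with rfl | rfl
  · left
    have hk2 : k = 2 := by
      by_contra hne
      have := h8 (by omega)
      have hh := hmod a
      split_ifs at hh <;> omega
    subst hk2
    exact ⟨rfl, by rw [hQ]; omega, by rw [hR]; omega⟩
  · right
    have hk2 : 3 ≤ k := by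
      by_contra hlt
      have : k = 2 := by omega
      subst this
      have : Nat.Prime 5 := by norm_num
      have h5 : 5 ∣ 3 := this.dvd_of_dvd_pow ⟨1, show 3 ^ b = 5 * 1 by rw [hR]; omega⟩
      omega
    have := h8 hk2
    have hh := hmod b
    split_ifs at hh with hbe
    · obtain ⟨j, hj⟩ := hbe
      -- (3^j - 1)(3^j + 1) = 2^k
      have hprod : (3 ^ j - 1) * (3 ^ j + 1) = 2 ^ k := by
        rw [mul_comm, ← Nat.sq_sub_sq, one_pow, ← pow_mul]
        have : 3 ^ b = e + 2 := hR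
        rw [show j * 2 = b by omega]; omega
      obtain ⟨i, -, hi⟩ := (Nat.dvd_prime_pow Nat.prime_two).mp (Dvd.intro _ hprod)
      obtain ⟨l, -, hl⟩ := (Nat.dvd_prime_pow Nat.prime_two).mp (Dvd.intro_left _ hprod)
      have h3j : 3 ≤ 3 ^ j := Nat.le_self_pow (by omega) 3
      have hi1 : i = 1 := by
        rcases Nat.lt_or_ge i 2 with h | h
        · rcases Nat.eq_zero_or_pos i with h0 | h0
          · subst h0; simp at hi; omega
          · omega
        · have h4 : 4 ∣ 2 ^ i := ⟨2 ^ (i - 2), by rw [show (4 : ℕ) = 2 ^ 2 by norm_num, ← pow_add]; congr 1; omega⟩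
          rcases Nat.lt_or_ge l 2 with h' | h'
          · interval_cases l <;> simp at hl <;> omega
          · have h4' : 4 ∣ 2 ^ l := ⟨2 ^ (l - 2), by rw [show (4 : ℕ) = 2 ^ 2 by norm_num, ← pow_add]; congr 1; omega⟩
            omega
      subst hi1
      have h9 : 3 ^ b = 9 := by
        rw [hj, pow_add, show 3 ^ j = 3 by simp at hi; omega]
        norm_num
      have he7 : e = 7 := by omega
      have hk3 : 2 ^ k = 2 ^ 3 := by rw [he, he7]; norm_num
      exact ⟨Nat.pow_right_injective le_rfl hk3, by omega, h9⟩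
    · omega

end CfsgLib.FourOrbit
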