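import Mathlib
import Cfsg.Agent.Lib.FourOrbit.Invol

/-!
# No group of order 504 all whose nontrivial elements have prime order and Sylow centralizers
-/

set_option autoImplicit false

namespace CfsgLib.FourOrbit

open Subgroup

variable {G : Type*} [Group G] [Finite G]

/-- The combinatorial core: a regular elementary group of order eight with a cyclic symmetry of
order seven and an inverting involution yield an element of order nine. -/
theorem false_of_labelling (hC : CentSylow G) (hord : ∀ g : G, g ≠ 1 →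
      orderOf g = 2 ∨ orderOf g = 3 ∨ orderOf g = 7)
    (S : Sylow 2 G) (N : Subgroup G) (hSN : (S : Subgroup G) ≤ N)
    (hnorm : ∀ g ∈ N, ∀ v ∈ (S : Subgroup G), g * v * g⁻¹ ∈ (S : Subgroup G))
    (hS : Nat.card (S : Subgroup G) = 8) (hN9 : N.index = 9)
    (hN2 : ∀ g ∈ N, orderOf g = 2 → g ∈ (S : Subgroup G))
    {x t : G} (hx : orderOf x = 7) (hxN : x ∈ N) (ht : orderOf t = 2) (htN : t ∉ N)
    (hinv : t * x * t = x⁻¹) (s : ZMod 7 → G) (hsS : ∀ i, s i ∈ (S : Subgroup G))
    (hs1 : ∀ i, s i ≠ 1) (hsinj : Function.Injective s)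
    (hshift : ∀ i, x * s i * x⁻¹ = s (i + 1)) (h013 : s 0 * s 1 = s 3) : False := by
  haveI := Fact.mk Nat.prime_two
  have htt : t * t = 1 := by rw [← pow_two, ← ht, pow_orderOf_eq_one]
  have hti : t⁻¹ = t := inv_eq_of_mul_eq_one_right htt
  have hxM : ∀ k : ℕ, (x ^ k : G) ∈ N := fun k => pow_mem hxN k
  let M : G ⧸ N := QuotientGroup.mk 1
  let e : ZMod 7 → G ⧸ N := fun i => QuotientGroup.mk (s i * t)
  have hmulmk : ∀ g h : G, g • (QuotientGroup.mk h : G ⧸ N) = QuotientGroup.mk (g * h) := fun g h => rfl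
  have hMne : ∀ g : G, (QuotientGroup.mk g : G ⧸ N) = M ↔ g ∈ N := fun g => by
    rw [QuotientGroup.eq, mul_one, inv_mem_iff]
  -- `t S t` meets `S` trivially
  have hTI : ∀ v ∈ (S : Subgroup G), t * v * t ∈ (S : Subgroup G) → v = 1 := by
    intro v hv htv
    by_contra hv1
    have htv1 : t * v * t ≠ 1 := fun h => hv1 (by
      have := congrArg (fun z => t * z * t) h
      simpa [← mul_assoc, htt, mul_assoc _ t t] using this)
    apply htN
    have h1 := centralizer_eq_sylow_two hC S hv hv1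
    have h2 := centralizer_eq_sylow_two hC S htv htv1
    have hnormS : t ∈ normalizer ((S : Subgroup G) : Set G) := by
      rw [mem_normalizer_iff]
      intro c
      have hiff : c ∈ centralizer ({v} : Set G) ↔ t * c * t ∈ centralizer ({t * v * t} : Set G) := by
        rw [mem_centralizer_singleton_iff, mem_centralizer_singleton_iff]
        have e1 : t * c * t * (t * v * t) = t * (c * v) * t := by
          calc t * c * t * (t * v * t) = t * c * (t * t) * v * t := by group
            _ = _ := by rw [htt]; group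
        have e2 : t * v * t * (t * c * t) = t * (v * c) * t := by
          calc t * v * t * (t * c * t) = t * v * (t * t) * c * t := by group
            _ = _ := by rw [htt]; group
        rw [e1, e2, mul_left_inj, mul_right_inj]
      rw [hti]; rw [h1, h2] at hiff; exact hiff
    have h3 : (S : Subgroup G) ⊔ zpowers t = (S : Subgroup G) := S.3 (by
      refine S.2.to_sup_of_normal_left' ?_ ?_
      · exact IsPGroup.of_card (n := 1) (by rw [Nat.card_zpowers, ht, pow_one])
      · exact (zpowers_le.mpr hnormS)) le_sup_left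
    exact hSN (h3 ▸ (le_sup_right : zpowers t ≤ _) (mem_zpowers t))
  have hdis : ∀ v ∈ (S : Subgroup G), ∀ w ∈ (S : Subgroup G),
      (QuotientGroup.mk (v * t) : G ⧸ N) = QuotientGroup.mk (w * t) → v = w := by
    intro v hv w hw h
    rw [QuotientGroup.eq] at h
    have hvw : v⁻¹ * w ∈ (S : Subgroup G) := mul_mem (inv_mem hv) hw
    have heq : t * (v⁻¹ * w) * t = (v * t)⁻¹ * (w * t) := by rw [mul_inv_rev, hti]; group
    by_contra hne
    have hu1 : v⁻¹ * w ≠ 1 := fun h1 => hne (inv_mul_eq_one.mp h1)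
    refine hu1 (hTI _ hvw (hN2 _ (heq ▸ h) ?_))
    rw [show t * (v⁻¹ * w) * t = (MulAut.conj t).toMonoidHom (v⁻¹ * w) by simp [hti],
      orderOf_injective (MulAut.conj t).toMonoidHom (MulAut.conj t).injective]
    exact orderOf_of_mem_pgroup hC S.2 hvw hu1
  -- the nine points
  have hcover : ∀ g : G, g ∈ N ∨ (QuotientGroup.mk g : G ⧸ N) = QuotientGroup.mk t ∨
      ∃ i, (QuotientGroup.mk g : G ⧸ N) = e i := by
    intro g
    let f : Option (S : Subgroup G) → G ⧸ N := fun o => o.elim M fun v => QuotientGroup.mk ((v : G) * t)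
    have hf : Function.Bijective f := by
      haveI := Fintype.ofFinite (S : Subgroup G)
      refine (Nat.bijective_iff_injective_and_card f).mpr ⟨?_, ?_⟩
      · rintro (_ | v) (_ | w) h
        · rfl
        · exact absurd ((mul_mem_cancel_left (hSN w.2)).mp ((hMne _).mp h.symm)) htN
        · exact absurd ((mul_mem_cancel_left (hSN v.2)).mp ((hMne _).mp h)) htN
        · exact congrArg some (Subtype.ext (hdis v v.2 w w.2 h))
      · rw [← index_eq_card, hN9, Finite.card_option, hS]
    obtain ⟨o, ho⟩ := hf.2 (QuotientGroup.mk g)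
    cases o with
    | none => exact Or.inl ((hMne g).mp ho.symm)
    | some v =>
      right
      by_cases hv1 : (v : G) = 1
      · left; rw [← ho]; simp [f, hv1]
      · right
        haveI := Fintype.ofFinite (S : Subgroup G)
        classical
        have hbij : Function.Bijective (fun i : ZMod 7 =>
            (⟨⟨s i, hsS i⟩, fun h => hs1 i (congrArg Subtype.val h)⟩ :
              {w : (S : Subgroup G) // w ≠ 1})) := by
          refine (Fintype.bijective_iff_injective_and_card _).mpr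
            ⟨fun i j h => hsinj (congrArg (fun w : {w : (S : Subgroup G) // w ≠ 1} =>
              ((w : (S : Subgroup G)) : G)) h), ?_⟩
          rw [ZMod.card, Fintype.card_subtype_compl, Fintype.card_subtype_eq,
            ← Nat.card_eq_fintype_card, hS]
        obtain ⟨i, hi⟩ := hbij.2 ⟨v, fun h => hv1 (by rw [h]; rfl)⟩
        refine ⟨i, ?_⟩
        have : s i = (v : G) := congrArg (fun w : {w : (S : Subgroup G) // w ≠ 1} =>
              ((w : (S : Subgroup G)) : G)) hi
        rw [← ho]; simp [f, e, this]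
  -- powers of `x`
  have hpow : ∀ (k : ℕ) (i : ZMod 7), x ^ k * s i = s (i + k) * x ^ k := by
    intro k
    induction k with
    | zero => simp
    | succ n ih =>
      intro i
      have h1 := hshift (i + n)
      rw [mul_inv_eq_iff_eq_mul] at h1
      rw [pow_succ', mul_assoc, ih, ← mul_assoc, h1, mul_assoc, Nat.cast_succ, add_assoc]
  have hxt : ∀ k : ℕ, t * x ^ k = (x ^ k)⁻¹ * t := by
    intro k
    induction k with
    | zero => simp
    | succ n ih =>
      have h1 : t * x = x⁻¹ * t := by rw [← hinv, mul_assoc _ t t, htt, mul_one]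
      rw [pow_succ, ← mul_assoc, ih, mul_assoc, h1, ← mul_assoc, ← mul_inv_rev, ← pow_succ',
        pow_succ]
  -- fix the base point
  obtain ⟨c, hc⟩ : ∃ c, (QuotientGroup.mk (t * s 0 * t) : G ⧸ N) = e c := by
    rcases hcover (t * s 0 * t) with h | h | h
    · exfalso
      refine hs1 0 (hTI _ (hsS 0) (hN2 _ h ?_))
      rw [show t * s 0 * t = (MulAut.conj t).toMonoidHom (s 0) by simp [hti],
        orderOf_injective (MulAut.conj t).toMonoidHom (MulAut.conj t).injective]
      exact orderOf_of_mem_pgroup hC S.2 (hsS 0) (hs1 0)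
    · exfalso
      rw [QuotientGroup.eq, mul_inv_rev, mul_inv_rev, hti] at h
      have e1 : t * ((s 0)⁻¹ * t) * t = t * (s 0)⁻¹ := by
        rw [mul_assoc, mul_assoc (s 0)⁻¹, htt, mul_one]
      rw [e1] at h
      exact htN ((mul_mem_cancel_right (inv_mem (hSN (hsS 0)))).mp h)
    · exact h
  have hmkN : ∀ (g : G) (k : ℕ), (QuotientGroup.mk (g * x ^ k) : G ⧸ N) = QuotientGroup.mk g :=
    fun g k => QuotientGroup.mk_mul_of_mem g (hxM k)
  have hkey : ∀ k : ℕ, (QuotientGroup.mk (t * s k * t) : G ⧸ N) = e (c - k) := by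
    intro k
    -- `s k = x^k (s 0) x^{-k}`
    have h1 : s (k : ZMod 7) = x ^ k * s 0 * (x ^ k)⁻¹ := by
      rw [hpow, zero_add, mul_inv_cancel_right]
    have hx7 : x ^ 7 = 1 := by rw [← hx, pow_orderOf_eq_one]
    have hinvk : (x ^ k)⁻¹ = x ^ (6 * k) := by
      refine inv_eq_of_mul_eq_one_right ?_
      rw [← pow_add, show k + 6 * k = 7 * k by ring, pow_mul, hx7, one_pow]
    have h2 : t * s (k : ZMod 7) * t = x ^ (6 * k) * (t * s 0 * t) * x ^ k := by
      calc t * s (k : ZMod 7) * t = (t * x ^ k) * s 0 * ((x ^ k)⁻¹ * t) := by rw [h1]; group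
        _ = ((x ^ k)⁻¹ * t) * s 0 * (t * x ^ k) := by rw [hxt k]
        _ = _ := by rw [hinvk]; group
    rw [h2, hmkN, ← hmulmk, hc]
    show (QuotientGroup.mk (x ^ (6 * k) * (s c * t)) : G ⧸ N) = _
    have h6 : ((6 * k : ℕ) : ZMod 7) = -(k : ZMod 7) := by
      push_cast
      rw [show (6 : ZMod 7) = -1 from rfl]; ring
    have h3 : x ^ (6 * k) * (s c * t) = s (c - k) * t * x ^ k := by
      rw [← mul_assoc, hpow, h6, ← sub_eq_add_neg, mul_assoc, mul_assoc, ← hinvk, ← hxt]
    rw [h3, hmkN]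
  -- replace `t` by `t * x ^ d`
  set d := c.val with hd
  have hdc : ((d : ℕ) : ZMod 7) = c := ZMod.natCast_zmod_val c
  set u := t * x ^ d with hu
  have huM : u • M = QuotientGroup.mk t := by
    show u • (QuotientGroup.mk 1 : G ⧸ N) = _
    rw [hmulmk, mul_one, hu, hmkN]
  have hut : u • (QuotientGroup.mk t : G ⧸ N) = M := by
    rw [hmulmk, hu, mul_assoc, hMne]
    have : t * (x ^ d * t) = (x ^ d)⁻¹ := by rw [← mul_assoc, hxt, mul_assoc, htt, mul_one]
    rw [this]; exact inv_mem (hxM d)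
  have hue : ∀ i, u • e i = e (-i) := by
    intro i
    obtain ⟨j, rfl⟩ : ∃ j : ℕ, (j : ZMod 7) = i := ⟨i.val, ZMod.natCast_zmod_val i⟩
    show u • (QuotientGroup.mk (s j * t) : G ⧸ N) = _
    rw [hmulmk, hu, mul_assoc, ← mul_assoc (x ^ d), hpow, mul_assoc (s _)]
    have h1 : x ^ d * t = t * (x ^ d)⁻¹ := by
      rw [← mul_right_inj t, ← mul_assoc, hxt, ← mul_assoc t t, htt, one_mul, mul_assoc, htt,
        mul_one]
    rw [h1, ← mul_assoc (s _), ← mul_assoc, QuotientGroup.mk_mul_of_mem _ (inv_mem (hxM d)),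
      ← mul_assoc, ← Nat.cast_add, hkey]
    congr 1
    push_cast
    rw [hdc]; ring
  -- the products in `S`
  have hrel : ∀ i, s i * s (i + 1) = s (i + 3) := by
    intro i
    obtain ⟨j, rfl⟩ : ∃ j : ℕ, (j : ZMod 7) = i := ⟨i.val, ZMod.natCast_zmod_val i⟩
    refine mul_right_cancel (b := x ^ j) ?_
    calc s j * s (j + 1) * x ^ j = x ^ j * (s 0 * s 1) := by
          rw [mul_assoc, add_comm (j : ZMod 7) 1, ← hpow j 1, ← mul_assoc, ← mul_assoc,
            hpow j 0, zero_add]
      _ = _ := by rw [h013, hpow, add_comm (3 : ZMod 7)]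
  have hsq : ∀ i, s i * s i = 1 := fun i => mul_self_of_sylow_two hC S (hsS i)
  have hcm : ∀ i j, s i * s j = s j * s i := fun i j => commute_of_sylow_two hC S (hsS i) (hsS j)
  have r12 : s 1 * s 2 = s 4 := hrel 1
  have r10 : s 1 * s 0 = s 3 := by rw [hcm, h013]
  have r13 : s 1 * s 3 = s 0 := by rw [← h013, hcm 0 1, ← mul_assoc, hsq, one_mul]
  have r14 : s 1 * s 4 = s 2 := by rw [← r12, ← mul_assoc, hsq, one_mul]
  have r56 : s 5 * s 6 = s 1 := hrel 5
  have r15 : s 1 * s 5 = s 6 := by rw [← r56, hcm 5 6, mul_assoc, hsq, mul_one]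
  have r16 : s 1 * s 6 = s 5 := by rw [← r56, mul_assoc, hsq, mul_one]
  set y := u * s 1 with hy
  have hy1 : y • M = QuotientGroup.mk t := by
    rw [hy, mul_smul]
    have : s 1 • M = M := by
      show s 1 • (QuotientGroup.mk 1 : G ⧸ N) = _
      rw [hmulmk, mul_one, hMne]; exact hSN (hsS 1)
    rw [this, huM]
  have hy2 : y • (QuotientGroup.mk t : G ⧸ N) = e 6 := by
    rw [hy, mul_smul, hmulmk, show (QuotientGroup.mk (s 1 * t) : G ⧸ N) = e 1 from rfl, hue]
    rfl
  have hye : ∀ i j, s 1 * s i = s j → y • e i = e (-j) := by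
    intro i j hij
    rw [hy, mul_smul, show s 1 • e i = e j from ?_, hue]
    show s 1 • (QuotientGroup.mk (s i * t) : G ⧸ N) = _
    rw [hmulmk, ← mul_assoc, hij]
  have hne : ∀ i, e i ≠ M := fun i h =>
    htN ((mul_mem_cancel_left (hSN (hsS i))).mp ((hMne _).mp h))
  have y2 : (y ^ 2) • M = e 6 := by rw [pow_succ, pow_one, mul_smul, hy1, hy2]
  have y3 : (y ^ 3) • M = e 2 := by
    rw [pow_succ', mul_smul, y2, hye 6 5 r16]; rfl
  have y4 : (y ^ 4) • M = e 3 := by rw [pow_succ', mul_smul, y3, hye 2 4 r12]; rfl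
  have y5 : (y ^ 5) • M = e 0 := by rw [pow_succ', mul_smul, y4, hye 3 0 r13]; rfl
  have y6 : (y ^ 6) • M = e 4 := by rw [pow_succ', mul_smul, y5, hye 0 3 r10]; rfl
  have y7 : (y ^ 7) • M = e 5 := by rw [pow_succ', mul_smul, y6, hye 4 2 r14]; rfl
  have hyne : y ≠ 1 := fun h => hne 6 (by rw [← y2, h, one_pow, one_smul])
  have hpo := pow_orderOf_eq_one y
  rcases hord y hyne with h | h | h <;> rw [h] at hpo
  · exact hne 6 (by rw [← y2, hpo, one_smul])
  · exact hne 2 (by rw [← y3, hpo, one_smul])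
  · exact hne 5 (by rw [← y7, hpo, one_smul])

theorem false_of_504 (hC : CentSylow G)
    (hord : ∀ g : G, g ≠ 1 → orderOf g = 2 ∨ orderOf g = 3 ∨ orderOf g = 7)
    (S : Sylow 2 G) (hS : Nat.card (S : Subgroup G) = 8)
    (hcard : Nat.card G = 504)
    (hN : Nat.card (normalizer ((S : Subgroup G) : Set G)) = 56)
    (hreal : ∀ x : G, orderOf x = 7 → ∃ t : G, orderOf t = 2 ∧ t * x * t = x⁻¹) : False := by
  haveI := Fact.mk Nat.prime_two
  set N := normalizer ((S : Subgroup G) : Set G) with hNdef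
  have hnorm : ∀ g ∈ N, ∀ v ∈ (S : Subgroup G), g * v * g⁻¹ ∈ (S : Subgroup G) :=
    fun g hg v hv => (mem_normalizer_iff.mp hg v).mp hv
  have hN2 : ∀ g ∈ N, orderOf g = 2 → g ∈ (S : Subgroup G) := by
    intro g hg h2
    have h3 : (S : Subgroup G) ⊔ zpowers g = (S : Subgroup G) := S.3 (by
      refine S.2.to_sup_of_normal_left' ?_ ?_
      · exact IsPGroup.of_card (n := 1) (by rw [Nat.card_zpowers, h2, pow_one])
      · exact (zpowers_le.mpr hg)) le_sup_left
    exact h3 ▸ (le_sup_right : zpowers g ≤ _) (mem_zpowers g)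
  have hN9 : N.index = 9 := by
    have := N.card_mul_index; rw [hcard, hN] at this; omega
  obtain ⟨⟨x, hxN⟩, hx'⟩ := @exists_prime_orderOf_dvd_card' N _ _ 7 ⟨by norm_num⟩ (by rw [hN]; norm_num)
  have hx : orderOf x = 7 := by rwa [Subgroup.orderOf_mk] at hx'
  obtain ⟨t, ht, hinv⟩ := hreal x hx
  have htt : t * t = 1 := by rw [← pow_two, ← ht, pow_orderOf_eq_one]
  have hx7 : x ^ 7 = 1 := by rw [← hx, pow_orderOf_eq_one]
  have hx1 : x ≠ 1 := fun h => by rw [h, orderOf_one] at hx; omega
  have hxS : ∀ k : ℕ, ¬ (7 ∣ k) → x ^ k ∉ (S : Subgroup G) := by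
    intro k hk hmem
    have h1 : orderOf (x ^ k) = 7 := by
      rw [orderOf_pow, hx, (Nat.prime_iff.mp (by norm_num : Nat.Prime 7)) |> fun _ =>
        ((show Nat.Prime 7 by norm_num).coprime_iff_not_dvd.mpr hk).gcd_eq_one, Nat.div_one]
    have h2 : x ^ k ≠ 1 := fun h => by rw [h, orderOf_one] at h1; omega
    have := orderOf_of_mem_pgroup hC S.2 hmem h2
    omega
  have htN : t ∉ N := by
    intro htN
    have htS := hN2 t htN ht
    have h1 : t * (x * t * x⁻¹) ∈ (S : Subgroup G) := mul_mem htS (hnorm x hxN t htS)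
    rw [show t * (x * t * x⁻¹) = t * x * t * x⁻¹ by group, hinv] at h1
    refine hxS 2 (by norm_num) ?_
    rw [show x ^ 2 = (x⁻¹ * x⁻¹)⁻¹ by rw [mul_inv_rev, inv_inv, pow_two]]
    exact inv_mem h1
  obtain ⟨s0, hs0, hs01⟩ : ∃ v ∈ (S : Subgroup G), v ≠ 1 := by
    obtain ⟨⟨v, hv⟩, hv1⟩ := Subgroup.ne_bot_iff_exists_ne_one.mp
      (show (S : Subgroup G) ≠ ⊥ from fun h => by rw [h, card_bot] at hS; omega)
    exact ⟨v, hv, fun h => hv1 (Subtype.ext h)⟩
  have hxmod : ∀ m : ℕ, x ^ m = x ^ (m % 7) := fun m => pow_eq_pow_mod m hx7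
  set s : ZMod 7 → G := fun i => x ^ i.val * s0 * (x ^ i.val)⁻¹ with hsdef
  have hsS : ∀ i, s i ∈ (S : Subgroup G) := fun i => hnorm _ (pow_mem hxN _) _ hs0
  have hs1 : ∀ i, s i ≠ 1 := fun i h => hs01 (conj_eq_one_iff.mp h)
  have hshift : ∀ i, x * s i * x⁻¹ = s (i + 1) := by
    intro i
    have h1 : x ^ (i + 1).val = x * x ^ i.val := by
      rw [← pow_succ', ZMod.val_add, ZMod.val_one_eq_one_mod, Nat.one_mod, ← hxmod]
    simp only [hsdef]
    rw [h1]; group
  have hinj : Function.Injective s := by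
    intro i j h
    by_contra hne
    wlog hlt : i.val ≤ j.val generalizing i j
    · exact this h.symm (Ne.symm hne) (by omega)
    have hlt' : i.val < j.val := lt_of_le_of_ne hlt fun e => hne (ZMod.val_injective 7 e)
    obtain ⟨k, hk⟩ := Nat.exists_eq_add_of_le hlt
    have hcomm : x ^ k * s0 = s0 * x ^ k := by
      simp only [hsdef] at h
      rw [hk, pow_add, mul_inv_rev] at h
      have e : x ^ k * s0 * (x ^ k)⁻¹ = s0 := by
        have := congrArg (fun z => (x ^ i.val)⁻¹ * z * x ^ i.val) h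
        simp only [← mul_assoc, inv_mul_cancel, one_mul, inv_mul_cancel_right] at this
        simp only [mul_assoc, inv_mul_cancel, mul_one] at this
        rw [mul_assoc]; exact this.symm
      exact mul_inv_eq_iff_eq_mul.mp e
    refine hxS k ?_ ?_
    · intro hd
      have h7 := ZMod.val_lt j
      have := Nat.le_of_dvd (by omega) hd
      omega
    · rw [← centralizer_eq_sylow_two hC S hs0 hs01]
      exact mem_centralizer_singleton_iff.mpr hcomm
  have hsq : ∀ i, s i * s i = 1 := fun i => mul_self_of_sylow_two hC S (hsS i)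
  have hcm : ∀ i j, s i * s j = s j * s i := fun i j => commute_of_sylow_two hC S (hsS i) (hsS j)
  -- all nontrivial elements of `S`
  obtain ⟨j, hj⟩ : ∃ j, s 0 * s 1 = s j := by
    classical
    haveI := Fintype.ofFinite (S : Subgroup G)
    have hbij : Function.Bijective (fun i : ZMod 7 =>
        (⟨⟨s i, hsS i⟩, fun h => hs1 i (congrArg Subtype.val h)⟩ :
          {w : (S : Subgroup G) // w ≠ 1})) := by
      refine (Fintype.bijective_iff_injective_and_card _).mpr
        ⟨fun i j h => hinj (congrArg (fun w : {w : (S : Subgroup G) // w ≠ 1} =>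
          ((w : (S : Subgroup G)) : G)) h), ?_⟩
      rw [ZMod.card, Fintype.card_subtype_compl, Fintype.card_subtype_eq,
        ← Nat.card_eq_fintype_card, hS]
    obtain ⟨j, hj⟩ := hbij.2 ⟨⟨s 0 * s 1, mul_mem (hsS 0) (hsS 1)⟩, fun h => by
      have h' : s 0 * s 1 = 1 := congrArg Subtype.val h
      have : s 0 = s 1 := by rw [← one_mul (s 1), ← h', mul_assoc, hsq, mul_one]
      exact absurd (hinj this) (by decide)⟩
    exact ⟨j, (congrArg (fun w : {w : (S : Subgroup G) // w ≠ 1} =>
      ((w : (S : Subgroup G)) : G)) hj).symm⟩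
  have hsh : ∀ a b c, s a * s b = s c → s (a + 1) * s (b + 1) = s (c + 1) := by
    intro a b c h
    rw [← hshift, ← hshift, ← hshift, ← h]; group
  have key : j = 3 ∨ j = 5 := by
    have g1 := hsh _ _ _ hj
    have g2 := hsh _ _ _ g1
    have g3 := hsh _ _ _ g2
    have hj' : ∀ a : ZMod 7, a = 0 ∨ a = 1 ∨ a = 2 ∨ a = 3 ∨ a = 4 ∨ a = 5 ∨ a = 6 := by decide
    rcases hj' j with rfl | rfl | rfl | rfl | rfl | rfl | rfl
    · exact absurd (mul_eq_left.mp hj) (hs1 1)
    · exact absurd (mul_eq_right.mp hj) (hs1 0)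
    · exfalso
      have h1 : s 1 * s 2 = s 3 := g1
      rw [← hj, hcm 0 1, ← mul_assoc, hsq, one_mul] at h1
      exact absurd (hinj h1) (by decide)
    · exact Or.inl rfl
    · exfalso
      have h1 : s 3 * s 4 = s 0 := g3
      rw [← hj, ← mul_assoc] at h1
      have h2 : s 3 * (s 0 * s 1) = s 0 := by rw [← mul_assoc]; exact h1
      rw [← mul_assoc, hcm 3 0, mul_assoc] at h2
      have h3 := mul_eq_left.mp h2
      have : s 3 = s 1 := by rw [← one_mul (s 1), ← h3, mul_assoc, hsq, mul_one]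
      exact absurd (hinj this) (by decide)
    · exact Or.inr rfl
    · exfalso
      have h1 : s 1 * s 2 = s 0 := g1
      have h2 : s 2 = s 6 := by
        rw [← hj, ← h1, mul_assoc, hcm 2 1, ← mul_assoc, hsq, one_mul]
      exact absurd (hinj h2) (by decide)
  rcases key with rfl | rfl
  · exact false_of_labelling hC hord S N le_normalizer hnorm hS hN9 hN2 hx hxN ht htN hinv s hsS
      hs1 hinj hshift hj
  · refine false_of_labelling hC hord S N le_normalizer hnorm hS hN9 hN2 (x := x⁻¹)
      (by rw [orderOf_inv, hx]) (inv_mem hxN) ht htN ?_ (fun i => s (1 - i)) (fun i => hsS _)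
      (fun i => hs1 _) (fun a b h => by have := hinj h; simpa using this) ?_ ?_
    · rw [inv_inv]
      have := congrArg (fun z => t * z * t) hinv
      simp only [← mul_assoc, htt, one_mul, mul_assoc _ t t, mul_one] at this
      exact this.symm
    · intro i
      rw [inv_inv]
      have := hshift (1 - (i + 1))
      rw [show (1 - (i + 1) + 1 : ZMod 7) = 1 - i by ring] at this
      rw [← this]; group
    · show s (1 - 0) * s (1 - 1) = s (1 - 3)
      rw [sub_zero, sub_self, show (1 - 3 : ZMod 7) = 5 from rfl, hcm, hj]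

end CfsgLib.FourOrbit
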