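import Mathlib

/-!
# A fixed-point-free group without elements of composite order is a group of prime power order
-/

set_option autoImplicit false

namespace CfsgLib.FourOrbit

open Subgroup

variable {M : Type*} [CommGroup M] [Finite M]

/-- Norm over a nontrivial finite subgroup acting without fixed points. -/
theorem norm_eq_one {E : Type*} [Group E] [MulDistribMulAction E M] (K : Subgroup E) [Fintype K]
    (h : ∀ v : M, (∀ k ∈ K, k • v = v) → v = 1) (v : M) : ∏ k : K, (k : E) • v = 1 := by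
  refine h _ fun k hk => ?_
  rw [Finset.smul_prod']
  refine Fintype.prod_equiv (Equiv.mulLeft (⟨k, hk⟩ : K)) _ _ fun a => ?_
  simp [smul_smul]

theorem exists_prime_of_fpf {E : Type*} [Group E] [Finite E] [MulDistribMulAction E M]
    [Group.IsSolvable E] [Nontrivial E] [Nontrivial M]
    (hprime : ∀ e : E, e ≠ 1 → (orderOf e).Prime)
    (hfix : ∀ e : E, e ≠ 1 → ∀ v : M, e • v = v → v = 1)
    (hcop : (Nat.card E).Coprime (Nat.card M)) :
    ∃ q : ℕ, q.Prime ∧ IsPGroup q E := by
  classical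
  obtain ⟨n, hn⟩ := (Group.isSolvable_def E).mp inferInstance
  have hex : ∃ n, derivedSeries E n = ⊥ := ⟨n, hn⟩
  obtain ⟨m, hm⟩ : ∃ m, Nat.find hex = m + 1 := by
    refine ⟨Nat.find hex - 1, ?_⟩
    rcases Nat.eq_zero_or_pos (Nat.find hex) with h0 | h0
    · exact absurd (h0 ▸ Nat.find_spec hex) (by simp [derivedSeries_zero, top_ne_bot])
    · omega
  set A := derivedSeries E m with hA
  have hAne : A ≠ ⊥ := Nat.find_min hex (by omega)
  have hAc : ∀ a ∈ A, ∀ b ∈ A, a * b = b * a := by
    intro a ha b hb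
    have h1 : ⁅A, A⁆ = ⊥ := by
      rw [hA, ← derivedSeries_succ, ← hm]; exact Nat.find_spec hex
    have h2 := (Subgroup.eq_bot_iff_forall _).mp h1 _ (Subgroup.commutator_mem_commutator ha hb)
    exact (commutatorElement_eq_one_iff_mul_comm.mp h2)
  haveI : A.Normal := derivedSeries_normal E m
  obtain ⟨a₀, ha₀, ha₁⟩ : ∃ a₀ ∈ A, a₀ ≠ 1 := by
    obtain ⟨⟨x, hx⟩, hx1⟩ := Subgroup.ne_bot_iff_exists_ne_one.mp hAne
    exact ⟨x, hx, fun h => hx1 (Subtype.ext h)⟩
  haveI := Fact.mk (hprime a₀ ha₁)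
  refine ⟨orderOf a₀, hprime a₀ ha₁, IsPGroup.iff_orderOf.mpr fun y => ?_⟩
  by_cases hy1 : y = 1
  · exact ⟨0, by simp [hy1]⟩
  refine ⟨1, ?_⟩
  rw [pow_one]
  by_contra hne
  have hAord : ∀ a ∈ A, a ≠ 1 → orderOf a = orderOf a₀ := by
    intro a ha hane
    by_contra h
    have hco : (orderOf a).Coprime (orderOf a₀) :=
      (Nat.coprime_primes (hprime a hane) (hprime a₀ ha₁)).mpr h
    have hcomm : Commute a a₀ := hAc a ha a₀ ha₀
    have hab := hcomm.orderOf_mul_eq_mul_orderOf_of_coprime hco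
    have hne1 : a * a₀ ≠ 1 := fun h1 => by
      rw [h1, orderOf_one] at hab
      exact (hprime a hane).ne_one (Nat.eq_one_of_mul_eq_one_right hab.symm)
    exact Nat.not_prime_mul (hprime a hane).ne_one (hprime a₀ ha₁).ne_one (hab ▸ hprime _ hne1)
  have hinjk : ∀ k : E, k ≠ 1 → orderOf k = orderOf y → ∀ a ∈ A, a * k = k * a → a = 1 := by
    intro k hk hky a ha hak
    by_contra hane
    have hao := hAord a ha hane
    have hco : (orderOf a).Coprime (orderOf k) := by
      rw [hao, hky]; exact (Nat.coprime_primes (hprime a₀ ha₁) (hprime y hy1)).mpr (Ne.symm hne)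
    have hab := (show Commute a k from hak).orderOf_mul_eq_mul_orderOf_of_coprime hco
    have hne1 : a * k ≠ 1 := fun h1 => by
      rw [h1, orderOf_one] at hab
      exact (hprime a hane).ne_one (Nat.eq_one_of_mul_eq_one_right hab.symm)
    exact Nat.not_prime_mul (hprime a hane).ne_one (hprime k hk).ne_one (hab ▸ hprime _ hne1)
  haveI := Fintype.ofFinite E
  set Y := zpowers y with hY
  haveI : Nontrivial Y := (nontrivial_iff_ne_bot Y).mpr (by simp [hY, hy1])
  have hnA : ∀ w : M, ∏ a : A, (a : E) • w = 1 := norm_eq_one A fun w hw => hfix a₀ ha₁ w (hw a₀ ha₀)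
  have hnY : ∀ w : M, ∏ k : Y, (k : E) • w = 1 :=
    norm_eq_one Y fun w hw => hfix y hy1 w (hw y (mem_zpowers y))
  obtain ⟨v, hv⟩ := exists_ne (1 : M)
  apply hv
  have h1 : ∀ k : Y, k ≠ 1 → ∏ a : A, ((a : E) * k * (a : E)⁻¹) • v = 1 := by
    intro k hk
    have hk1 : (k : E) ≠ 1 := fun h => hk (Subtype.ext h)
    have hko : orderOf (k : E) = orderOf y := by
      rcases (Nat.dvd_prime (hprime y hy1)).mp (orderOf_dvd_of_mem_zpowers k.2) with h | h
      · exact absurd (orderOf_eq_one_iff.mp h) hk1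
      · exact h
    let f : A → A := fun a => ⟨(a : E) * ((k : E) * (a : E)⁻¹ * (k : E)⁻¹),
      A.mul_mem a.2 (Subgroup.Normal.conj_mem inferInstance _ (A.inv_mem a.2) _)⟩
    have hf : Function.Bijective f := by
      refine Finite.injective_iff_bijective.mp fun a b hab => ?_
      have e : (a : E) * k * (a : E)⁻¹ = (b : E) * k * (b : E)⁻¹ := by
        have := congrArg (fun z : A => (z : E) * k) hab
        simpa [f, mul_assoc] using this
      have hc : ((b : E)⁻¹ * a) * k = k * ((b : E)⁻¹ * a) := by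
        calc ((b : E)⁻¹ * a) * k = (b : E)⁻¹ * ((a : E) * k * (a : E)⁻¹) * a := by group
          _ = _ := by rw [e]; group
      exact Subtype.ext (inv_mul_eq_one.mp (hinjk k hk1 hko _ (A.mul_mem (A.inv_mem b.2) a.2) hc)).symm
    rw [← hnA ((k : E) • v)]
    refine Fintype.prod_equiv (Equiv.ofBijective f hf) _ _ fun a => ?_
    simp only [Equiv.ofBijective_apply, f, smul_smul]
    congr 1
    group
  have h2 : ∏ k : Y, ∏ a : A, ((a : E) * k * (a : E)⁻¹) • v = 1 := by
    rw [Finset.prod_comm]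
    refine Finset.prod_eq_one fun a _ => ?_
    simp only [← smul_smul]
    rw [← Finset.smul_prod', hnY, smul_one]
  rw [Fintype.prod_eq_single (1 : Y) (fun k hk => h1 k hk)] at h2
  simp only [OneMemClass.coe_one, mul_one, mul_inv_cancel, one_smul, Finset.prod_const,
    Finset.card_univ] at h2
  have hAcop : (Fintype.card A).Coprime (Nat.card M) := by
    rw [← Nat.card_eq_fintype_card]
    exact Nat.Coprime.of_dvd_left (card_subgroup_dvd_card A) hcop
  have h3 : v ^ Nat.card M = 1 := pow_card_eq_one'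
  have := pow_gcd_eq_one.mpr ⟨h2, h3⟩
  rwa [hAcop.gcd_eq_one, pow_one] at this

end CfsgLib.FourOrbit
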