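import Mathlib
import Cfsg.Agent.Lib.FourOrbit.Invol
import Cfsg.Agent.Lib.FourOrbit.FixedPointFree
import Cfsg.Agent.Lib.FourOrbit.Arith
import Cfsg.Agent.Lib.FourOrbit.DegreeNine
import Cfsg.Agent.S0494

/-!
# Non-solvable groups with four automorphism orbits
-/

set_option autoImplicit false

namespace CfsgLib.FourOrbit

open Subgroup

variable {G : Type*} [Group G] [Finite G]

/-- The hypotheses shared by the counting steps. -/
structure Setup (G : Type*) [Group G] [Finite G] (p q r : ℕ) : Prop where
  pp : p.Prime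
  qp : q.Prime
  rp : r.Prime
  pq : p ≠ q
  pr : p ≠ r
  qr : q ≠ r
  hp : p ∣ Nat.card G
  hq : q ∣ Nat.card G
  hr : r ∣ Nat.card G
  all : ∀ x : G, x ≠ 1 → orderOf x = p ∨ orderOf x = q ∨ orderOf x = r
  aut : ∀ x y : G, orderOf x = orderOf y → ∃ α : MulAut G, α x = y
  nsol : ¬ Group.IsSolvable G

theorem Setup.primes {p q r : ℕ} (h : Setup G p q r) (s : ℕ) (hs : s.Prime)
    (hd : s ∣ Nat.card G) : s = p ∨ s = q ∨ s = r := by
  haveI := Fact.mk hs
  obtain ⟨x, hx⟩ := exists_prime_orderOf_dvd_card' s hd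
  rw [← hx]
  exact h.all x fun h1 => hs.ne_one (by rw [← hx, h1, orderOf_one])

theorem Setup.centSylow {p q r : ℕ} (h : Setup G p q r) : CentSylow G := by
  intro x hx
  have hpr : ∀ y : G, y ≠ 1 → (orderOf y).Prime := fun y hy => by
    rcases h.all y hy with e | e | e <;> rw [e] <;> [exact h.pp; exact h.qp; exact h.rp]
  refine ⟨hpr x hx, ?_⟩
  set s := orderOf x with hs
  haveI := Fact.mk (hpr x hx)
  -- a central element of a Sylow subgroup
  obtain ⟨P⟩ := (inferInstance : Nonempty (Sylow s G))
  haveI : Nontrivial (P : Subgroup G) := by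
    rw [nontrivial_iff_ne_bot]
    intro hb
    have := P.card_eq_multiplicity
    rw [show Nat.card (P : Subgroup G) = 1 by rw [hb, card_bot]] at this
    have h1 : 0 < (Nat.card G).factorization s :=
      (hpr x hx).factorization_pos_of_dvd Nat.card_pos.ne' (orderOf_dvd_natCard x)
    exact absurd this.symm (Nat.ne_of_gt (Nat.one_lt_pow h1.ne' (hpr x hx).one_lt))
  haveI := P.2.center_nontrivial
  obtain ⟨z, hz⟩ := exists_ne (1 : center (P : Subgroup G))
  have hzG : ((z : (P : Subgroup G)) : G) ≠ 1 := fun h' => hz (Subtype.ext (Subtype.ext h'))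
  set w := ((z : (P : Subgroup G)) : G) with hw
  have hwo : orderOf w = s := by
    obtain ⟨k, hk⟩ := IsPGroup.iff_orderOf.mp P.2 (z : (P : Subgroup G))
    rw [← Subgroup.orderOf_coe, ← hw] at hk
    have := hpr w hzG
    rw [hk] at this ⊢
    rw [Nat.Prime.eq_one_of_pow this, pow_one]
  have hcentw : centralizer ({w} : Set G) = (P : Subgroup G) := by
    refine P.3 (IsPGroup.iff_orderOf.mpr fun y => ?_) fun y hy => mem_centralizer_singleton_iff.mpr
      (congrArg Subtype.val (mem_center_iff.mp z.2 ⟨y, hy⟩))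
    by_cases hy : (y : G) = 1
    · exact ⟨0, by rw [← Subgroup.orderOf_coe, hy, orderOf_one, pow_zero]⟩
    refine ⟨1, ?_⟩
    rw [pow_one, ← Subgroup.orderOf_coe]
    by_contra hne
    have hco : (orderOf (y : G)).Coprime (orderOf w) := by
      rw [hwo]; exact (Nat.coprime_primes (hpr _ hy) (hpr x hx)).mpr hne
    have hab := (show Commute (y : G) w from mem_centralizer_singleton_iff.mp y.2).orderOf_mul_eq_mul_orderOf_of_coprime hco
    have hne1 : (y : G) * w ≠ 1 := fun h1 => by
      rw [h1, orderOf_one] at hab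
      exact (hpr _ hy).ne_one (Nat.eq_one_of_mul_eq_one_right hab.symm)
    exact Nat.not_prime_mul (hpr _ hy).ne_one (hpr w hzG).ne_one (hab ▸ hpr _ hne1)
  obtain ⟨α, hα⟩ := h.aut w x hwo
  have hcx : centralizer ({x} : Set G) = (P : Subgroup G).map α.toMonoidHom := by
    rw [← hcentw]
    ext y
    simp only [Subgroup.mem_map, mem_centralizer_singleton_iff, MulEquiv.coe_toMonoidHom]
    constructor
    · intro hy
      refine ⟨α.symm y, ?_, α.apply_symm_apply y⟩
      apply α.injective
      rw [map_mul, map_mul, α.apply_symm_apply, hα, hy]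
    · rintro ⟨y', hy', rfl⟩
      rw [← hα, ← map_mul, ← map_mul, hy']
  refine ⟨Sylow.ofCard (centralizer ({x} : Set G)) ?_, rfl⟩
  rw [hcx, Nat.card_congr ((P : Subgroup G).equivMapOfInjective α.toMonoidHom α.injective).symm.toEquiv]
  exact P.card_eq_multiplicity

theorem Setup.not_complement {p q r : ℕ} (h : Setup G p q r) {s : ℕ} [Fact s.Prime]
    (hs : s ∣ Nat.card G) : ¬ Cfsg.HasNormalPComplement s G := by
  intro hc
  rcases h.primes s Fact.out hs with e | e | e <;> subst e
  · exact h.nsol (isSolvable_of_complement h.qp h.rp h.qr h.primes hc)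
  · exact h.nsol (isSolvable_of_complement h.pp h.rp h.pr
      (fun u hu hd => by rcases h.primes u hu hd with e | e | e <;> simp [e]) hc)
  · exact h.nsol (isSolvable_of_complement h.pp h.qp h.pq
      (fun u hu hd => by rcases h.primes u hu hd with e | e | e <;> simp [e]) hc)

theorem Setup.total {p q r : ℕ} (h : Setup G p q r) :
    1 + Nat.card {x : G // orderOf x = p} + Nat.card {x : G // orderOf x = q} +
      Nat.card {x : G // orderOf x = r} = Nat.card G := by
  classical
  haveI := Fintype.ofFinite G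
  simp only [Nat.card_eq_fintype_card, Fintype.card_subtype]
  rw [← Finset.card_univ (α := G),
    Finset.card_eq_sum_card_fiberwise (s := (Finset.univ : Finset G))
      (t := ({1, p, q, r} : Finset ℕ)) (f := fun x => orderOf x) (fun x _ => by
      by_cases hx : x = 1
      · simp [hx]
      · rcases h.all x hx with e | e | e <;> simp [e])]
  rw [Finset.sum_insert (by simp [h.pp.ne_one.symm, h.qp.ne_one.symm, h.rp.ne_one.symm]),
    Finset.sum_insert (by simp [h.pq, h.pr]), Finset.sum_pair h.qr]
  have : (Finset.univ.filter fun x : G => orderOf x = 1) = {1} := by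
    ext x; simp [orderOf_eq_one_iff]
  rw [this, Finset.card_singleton]
  ring

theorem Setup.card_eq {p q r : ℕ} (h : Setup G p q r) :
    Nat.card G = p ^ (Nat.card G).factorization p * (q ^ (Nat.card G).factorization q *
      r ^ (Nat.card G).factorization r) := by
  conv_lhs => rw [← Nat.prod_factorization_pow_eq_self (Nat.card_pos (α := G)).ne',
    Nat.prod_factorization_eq_prod_primeFactors]
  rw [Finset.prod_subset (s₂ := ({p, q, r} : Finset ℕ)) ?_ ?_,
    Finset.prod_insert (by simp [h.pq, h.pr]), Finset.prod_pair h.qr]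
  · intro s hs
    rcases h.primes s (Nat.prime_of_mem_primeFactors hs) (Nat.dvd_of_mem_primeFactors hs) with
      e | e | e <;> simp [e]
  · intro s _ hs
    have : (Nat.card G).factorization s = 0 := Finsupp.notMem_support_iff.mp hs
    rw [this, pow_zero]

theorem Setup.two_dvd {p q r : ℕ} (h : Setup G p q r) : 2 ∣ Nat.card G := by
  by_contra hodd
  have hodd' : Odd (Nat.card G) := Nat.odd_iff.mpr (by omega)
  have key : ∀ s : ℕ, s.Prime → s ∣ Nat.card G → (∃ u, u.Prime ∧ u ≠ s ∧ u ∣ Nat.card G) →
      3 * Nat.card {x : G // orderOf x = s} + 3 ≤ Nat.card G := by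
    intro s hs hd hu
    haveI := Fact.mk hs
    obtain ⟨P⟩ := (inferInstance : Nonempty (Sylow s G))
    have h1 := odd_weight h.centSylow hodd' (h.not_complement hd) P
    obtain ⟨u, hu, hus, hud⟩ := hu
    have h2 : u ∣ (P : Subgroup G).index := by
      rw [← (P : Subgroup G).card_mul_index] at hud
      refine (Nat.Coprime.dvd_of_dvd_mul_left ?_ hud)
      obtain ⟨n, hn⟩ := IsPGroup.iff_card.mp P.2
      rw [hn]
      exact Nat.Coprime.pow_right n ((Nat.coprime_primes hu hs).mpr hus)
    have h3 : 3 ≤ u := by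
      have := hu.two_le
      rcases Nat.lt_or_ge u 3 with h' | h'
      · have : u = 2 := by omega
        exact absurd (this ▸ hud) hodd
      · exact h'
    have := Nat.le_of_dvd (Nat.pos_of_ne_zero index_ne_zero_of_finite) h2
    omega
  have h1 := key p h.pp h.hp ⟨q, h.qp, h.pq.symm, h.hq⟩
  have h2 := key q h.qp h.hq ⟨p, h.pp, h.pq, h.hp⟩
  have h3 := key r h.rp h.hr ⟨q, h.qp, h.qr, h.hq⟩
  have := h.total
  omega

omit [Finite G] in
theorem Setup.swap [Finite G] {p q r : ℕ} (h : Setup G p q r) : Setup G p r q :=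
  ⟨h.pp, h.rp, h.qp, h.pr, h.pq, h.qr.symm, h.hp, h.hr, h.hq,
    fun x hx => by rcases h.all x hx with e | e | e <;> simp [e], h.aut, h.nsol⟩

open Classical in
theorem isSimpleGroup_sixty (h : Setup G 2 3 5) (hg : Nat.card G = 60) : IsSimpleGroup G := by
  haveI : Nontrivial G := Finite.one_lt_card_iff_nontrivial.mp (by omega)
  constructor
  intro M hM
  by_contra hne
  push Not at hne
  haveI := Fintype.ofFinite G
  -- a prime divisor of `|M|` contributes a whole conjugacy class
  have hcls : ∀ s n : ℕ, s.Prime → (Nat.card G).factorization s = n → s ∣ Nat.card M →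
      60 / s ^ n ≤ Nat.card {z : M // orderOf z = s} := by
    intro s n hs hf hd
    haveI := Fact.mk hs
    obtain ⟨y, hy⟩ := exists_prime_orderOf_dvd_card' (G := M) s hd
    have hy' : orderOf (y : G) = s := by rw [Subgroup.orderOf_coe]; exact hy
    obtain ⟨P, hP⟩ := exists_sylow_eq h.centSylow hs hy'
    have hidx : (centralizer ({(y : G)} : Set G)).index = 60 / s ^ n := by
      have := (centralizer ({(y : G)} : Set G)).card_mul_index
      rw [← hP, P.card_eq_multiplicity, hf, hg] at this
      rw [← hP]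
      exact (Nat.div_eq_of_eq_mul_right (pow_pos hs.pos n) this.symm).symm
    rw [← hidx, index_eq_card]
    let f : G ⧸ centralizer ({(y : G)} : Set G) → {z : M // orderOf z = s} := Quotient.lift
      (fun g : G => (⟨⟨g * y * g⁻¹, hM.conj_mem _ y.2 g⟩, by
        rw [Subgroup.orderOf_mk, ← hy']
        exact orderOf_injective (MulAut.conj g).toMonoidHom (MulAut.conj g).injective (y : G)⟩ :
          {z : M // orderOf z = s}))
      (fun g g' hgg => by
        have hgg' := mem_centralizer_singleton_iff.mp (QuotientGroup.leftRel_apply.mp hgg)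
        refine Subtype.ext (Subtype.ext ?_)
        show g * y * g⁻¹ = g' * y * g'⁻¹
        calc g * y * g⁻¹ = g * (y * (g⁻¹ * g')) * g'⁻¹ := by group
          _ = _ := by rw [← hgg']; group)
    refine Nat.card_le_card_of_injective f ?_
    rintro ⟨g⟩ ⟨g'⟩ he
    have he' : g * (y : G) * g⁻¹ = g' * y * g'⁻¹ := congrArg (fun z : {z : M // orderOf z = s} =>
      ((z : M) : G)) he
    refine QuotientGroup.eq.mpr (mem_centralizer_singleton_iff.mpr ?_)
    calc g⁻¹ * g' * (y : G) = g⁻¹ * (g' * y * g'⁻¹) * g' := by group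
      _ = _ := by rw [← he']; group
  have hsum : 1 + Nat.card {z : M // orderOf z = 2} + Nat.card {z : M // orderOf z = 3} +
      Nat.card {z : M // orderOf z = 5} ≤ Nat.card M := by
    haveI := Fintype.ofFinite M
    simp only [Nat.card_eq_fintype_card]
    rw [Fintype.card_subtype (fun z : M => orderOf z = 2),
      Fintype.card_subtype (fun z : M => orderOf z = 3),
      Fintype.card_subtype (fun z : M => orderOf z = 5), ← Finset.card_univ (α := M),
      Finset.card_eq_sum_card_fiberwise (s := (Finset.univ : Finset M))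
        (t := ({1, 2, 3, 5} : Finset ℕ)) (f := fun x => orderOf x) (fun x _ => by
        by_cases hx : (x : G) = 1
        · simp [show x = 1 from Subtype.ext hx]
        · rcases h.all x hx with e' | e' | e' <;>
            simp [← Subgroup.orderOf_coe, e'])]
    rw [Finset.sum_insert (by simp), Finset.sum_insert (by simp), Finset.sum_pair (by norm_num)]
    have : (Finset.univ.filter fun x : M => orderOf x = 1) = {1} := by
      ext x; simp [orderOf_eq_one_iff]
    rw [this, Finset.card_singleton]
    omega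
  have hlt : Nat.card M < 60 := hg ▸ lt_of_le_of_ne M.card_le_card_group
    (fun e' => hne.2 (eq_top_of_card_eq M e'))
  have hgt : 1 < Nat.card M := (one_lt_card_iff_ne_bot M).mpr hne.1
  have hcases : Nat.card M ∈ Nat.divisors 60 :=
    Nat.mem_divisors.mpr ⟨hg ▸ M.card_subgroup_dvd_card, by norm_num⟩
  rw [show Nat.divisors 60 = {1, 2, 3, 4, 5, 6, 10, 12, 15, 20, 30, 60} by decide] at hcases
  have c2 := hcls 2 2 Nat.prime_two (by rw [hg]; decide +kernel)
  have c3 := hcls 3 1 Nat.prime_three (by rw [hg]; decide +kernel)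
  have c5 := hcls 5 1 (by norm_num) (by rw [hg]; decide +kernel)
  simp only [Finset.mem_insert, Finset.mem_singleton] at hcases
  norm_num at c2 c3 c5
  simp only [Nat.card_eq_fintype_card] at *
  rcases imp_iff_not_or.mp c2 with c2 | c2 <;> rcases imp_iff_not_or.mp c3 with c3 | c3 <;>
    rcases imp_iff_not_or.mp c5 with c5 | c5 <;> omega

/-- Some element of order `s` is inverted by an involution. -/
def IsRealPrime (G : Type*) [Group G] (s : ℕ) : Prop :=
  ∃ x t : G, orderOf x = s ∧ orderOf t = 2 ∧ t * x * t = x⁻¹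

variable {q r : ℕ}

theorem Setup.real_all (h : Setup G 2 q r) {s : ℕ} (hs : IsRealPrime G s) (x : G)
    (hx : orderOf x = s) : ∃ t : G, RealData s x t := by
  obtain ⟨y, t, hy, ht, hyt⟩ := hs
  obtain ⟨α, hα⟩ := h.aut y x (hy.trans hx.symm)
  refine ⟨α t, hx, ?_, ?_⟩
  · rw [← ht]; exact orderOf_injective α.toMonoidHom α.injective t
  · rw [← hα, ← map_mul, ← map_mul, hyt, map_inv]

theorem Setup.card_inverting (h : Setup G 2 q r) {s : ℕ} [Fact s.Prime] (hs2 : s ≠ 2) (x : G)
    (hx : orderOf x = s) (P : Sylow s G) [Decidable (IsRealPrime G s)] :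
    Nat.card {u : G // orderOf (u * x) = 2 ∧ orderOf u = 2} =
      if IsRealPrime G s then Nat.card (P : Subgroup G) else 0 := by
  split_ifs with hs
  · obtain ⟨t, ht⟩ := h.real_all hs x hx
    obtain ⟨Q, hQ⟩ := exists_sylow_eq h.centSylow Fact.out hx
    rw [ht.card_inverting hs2 h.centSylow, ← hQ]
    exact Nat.card_congr (Q.equiv P).toEquiv
  · refine Nat.card_eq_zero.mpr (Or.inl ⟨fun ⟨u, hux, hu⟩ => hs ⟨x, u, hx, hu, ?_⟩⟩)
    have hux' : u * x * (u * x) = 1 := by rw [← pow_two, ← hux, pow_orderOf_eq_one]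
    exact eq_inv_of_mul_eq_one_left (by rw [mul_assoc _ u x]; exact hux')

open Classical in
/-- Counting ordered pairs of involutions by their quotient. -/
theorem Setup.pairs (h : Setup G 2 q r) [Fact q.Prime] [Fact r.Prime] (S : Sylow 2 G)
    (Q : Sylow q G) (R : Sylow r G) :
    Nat.card {x : G // orderOf x = 2} * Nat.card {x : G // orderOf x = 2} =
      Nat.card {x : G // orderOf x = 2} +
      Nat.card {x : G // orderOf x = 2} * (Nat.card (S : Subgroup G) - 2) +
      Nat.card {x : G // orderOf x = q} *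
        (if IsRealPrime G q then Nat.card (Q : Subgroup G) else 0) +
      Nat.card {x : G // orderOf x = r} *
        (if IsRealPrime G r then Nat.card (R : Subgroup G) else 0) := by
  haveI := Fact.mk Nat.prime_two
  haveI := Fintype.ofFinite G
  have hC := h.centSylow
  have e : {x : G // orderOf x = 2} × {x : G // orderOf x = 2} ≃
      Σ x : G, {u : G // orderOf (u * x) = 2 ∧ orderOf u = 2} :=
    { toFun := fun p => ⟨(p.1 : G)⁻¹ * p.2, ⟨p.1, by rw [mul_inv_cancel_left]; exact p.2.2, p.1.2⟩⟩
      invFun := fun s => (⟨s.2.1, s.2.2.2⟩, ⟨(s.2.1 : G) * s.1, s.2.2.1⟩)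
      left_inv := fun p => Prod.ext rfl (Subtype.ext (mul_inv_cancel_left _ _))
      right_inv := fun s => Sigma.subtype_ext (inv_mul_cancel_left _ _) rfl }
  have hf : ∀ x : G, Nat.card {u : G // orderOf (u * x) = 2 ∧ orderOf u = 2} =
      if orderOf x = 1 then Nat.card {x : G // orderOf x = 2}
      else if orderOf x = 2 then Nat.card (S : Subgroup G) - 2
      else if orderOf x = q then (if IsRealPrime G q then Nat.card (Q : Subgroup G) else 0)
      else (if IsRealPrime G r then Nat.card (R : Subgroup G) else 0) := by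
    intro x
    split_ifs with h1 h2 h3 h4 h5 h6
    · rw [orderOf_eq_one_iff.mp h1]
      exact Nat.card_congr (Equiv.subtypeEquivRight fun u => by simp)
    · obtain ⟨T, hT⟩ := exists_sylow_eq hC Nat.prime_two h2
      have hxx : x * x = 1 := by rw [← pow_two, ← h2, pow_orderOf_eq_one]
      have hxT : x ∈ (T : Subgroup G) := by rw [hT, mem_centralizer_singleton_iff]
      have hx1 : x ≠ 1 := fun h' => h1 (by rw [h', orderOf_one])
      have hiff : ∀ u : G, (orderOf (u * x) = 2 ∧ orderOf u = 2) ↔
          u ∈ (T : Subgroup G) ∧ u ≠ 1 ∧ u ≠ x := by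
        intro u
        constructor
        · rintro ⟨hux, hu⟩
          refine ⟨?_, fun e' => by rw [e', orderOf_one] at hu; omega,
            fun e' => by rw [e', hxx, orderOf_one] at hux; omega⟩
          have huu : u * u = 1 := by rw [← pow_two, ← hu, pow_orderOf_eq_one]
          have hux' : u * x * (u * x) = 1 := by rw [← pow_two, ← hux, pow_orderOf_eq_one]
          rw [hT, mem_centralizer_singleton_iff]
          have := inv_eq_of_mul_eq_one_right hux'
          rw [mul_inv_rev, inv_eq_of_mul_eq_one_right huu, inv_eq_of_mul_eq_one_right hxx] at this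
          exact this.symm
        · rintro ⟨huT, hu1, hux⟩
          refine ⟨orderOf_of_mem_pgroup hC T.2 (mul_mem huT hxT) fun e' => hux ?_,
            orderOf_of_mem_pgroup hC T.2 huT hu1⟩
          rw [eq_inv_of_mul_eq_one_left e', inv_eq_of_mul_eq_one_right hxx]
      rw [Nat.card_congr (Equiv.subtypeEquivRight hiff), Nat.card_eq_fintype_card,
        Fintype.card_subtype]
      have : (Finset.univ.filter fun u : G => u ∈ (T : Subgroup G) ∧ u ≠ 1 ∧ u ≠ x) =
          ((T : Set G).toFinset.erase 1).erase x := by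
        ext u
        simp only [Finset.mem_filter, Finset.mem_univ, true_and, Finset.mem_erase,
          Set.mem_toFinset, SetLike.mem_coe]
        tauto
      rw [this, Finset.card_erase_of_mem, Finset.card_erase_of_mem, Set.toFinset_card,
        ← Nat.card_eq_fintype_card]
      · have := Nat.card_congr (T.equiv S).toEquiv
        show Nat.card (T : Subgroup G) - 1 - 1 = _
        omega
      · simp [one_mem]
      · simp [hx1]; exact hxT
    all_goals first
      | (rw [h.card_inverting (fun e' => h.pq e'.symm) x ‹_› Q, if_pos ‹_›])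
      | (rw [h.card_inverting (fun e' => h.pq e'.symm) x ‹_› Q, if_neg ‹_›])
      | (have hxr : orderOf x = r := by
          rcases h.all x (fun h' => h1 (by rw [h', orderOf_one])) with e' | e' | e'
          · exact absurd e' h2
          · exact absurd e' h3
          · exact e'
         rw [h.card_inverting (fun e' => h.pr e'.symm) x hxr R]
         simp_all)
  rw [← Nat.card_prod, Nat.card_congr e, Nat.card_sigma]
  simp only [hf, Nat.card_eq_fintype_card (α := {x : G // orderOf x = _}), Fintype.card_subtype]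
  rw [← Finset.sum_fiberwise_of_maps_to (s := (Finset.univ : Finset G))
    (t := ({1, 2, q, r} : Finset ℕ)) (g := fun x => orderOf x) (fun x _ => by
      by_cases hx : x = 1
      · simp [hx]
      · rcases h.all x hx with e' | e' | e' <;> simp [e'])]
  rw [Finset.sum_insert (by simp [h.qp.ne_one.symm, h.rp.ne_one.symm]),
    Finset.sum_insert (by simp [h.pq, h.pr]), Finset.sum_pair h.qr]
  have h1' : (Finset.univ.filter fun x : G => orderOf x = 1) = {1} := by
    ext x; simp [orderOf_eq_one_iff]
  rw [Finset.sum_congr rfl (fun x hx => by rw [if_pos (Finset.mem_filter.mp hx).2]),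
    Finset.sum_congr (s₁ := Finset.univ.filter fun x : G => orderOf x = 2) rfl (fun x hx => by
      rw [if_neg (by rw [(Finset.mem_filter.mp hx).2]; omega), if_pos (Finset.mem_filter.mp hx).2]),
    Finset.sum_congr (s₁ := Finset.univ.filter fun x : G => orderOf x = q) rfl (fun x hx => by
      rw [if_neg (by rw [(Finset.mem_filter.mp hx).2]; exact h.qp.ne_one),
        if_neg (by rw [(Finset.mem_filter.mp hx).2]; exact h.pq.symm),
        if_pos (Finset.mem_filter.mp hx).2]),
    Finset.sum_congr (s₁ := Finset.univ.filter fun x : G => orderOf x = r) rfl (fun x hx => by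
      rw [if_neg (by rw [(Finset.mem_filter.mp hx).2]; exact h.rp.ne_one),
        if_neg (by rw [(Finset.mem_filter.mp hx).2]; exact h.pr.symm),
        if_neg (by rw [(Finset.mem_filter.mp hx).2]; exact h.qr.symm)])]
  simp only [Finset.sum_const, smul_eq_mul, h1', Finset.card_singleton, one_mul]
  omega

theorem Setup.real_count (h : Setup G 2 q r) {s : ℕ} [Fact s.Prime] (hs2 : s ≠ 2)
    (hs : IsRealPrime G s) (P : Sylow s G) :
    2 * Nat.card {x : G // orderOf x = s} =
      (P : Subgroup G).index * (Nat.card (P : Subgroup G) - 1) := by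
  obtain ⟨x, t, hx, ht, hxt⟩ := hs
  obtain ⟨Q, hQ⟩ := exists_sylow_eq h.centSylow Fact.out hx
  have hd : RealData s x t := ⟨hx, ht, hxt⟩
  have h1 := hd.relIndex hs2 h.centSylow Q hQ
  have h2 := hd.center_eq_top hs2 h.centSylow Q hQ
  rw [card_orderOf_eq h.centSylow Q, h2, Q.card_eq_index_normalizer]
  have h3 : (Q : Subgroup G).index = 2 * (normalizer ((Q : Subgroup G) : Set G)).index := by
    rw [← h1, relIndex_mul_index le_normalizer]
  have hPQ := Nat.card_congr (Q.equiv P).toEquiv
  have hidx : (P : Subgroup G).index = (Q : Subgroup G).index := by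
    have a1 := (P : Subgroup G).card_mul_index
    have a2 := (Q : Subgroup G).card_mul_index
    change Nat.card (Q : Subgroup G) = Nat.card (P : Subgroup G) at hPQ
    rw [hPQ] at a2
    exact Nat.eq_of_mul_eq_mul_left Nat.card_pos (a1.trans a2.symm)
  change Nat.card (Q : Subgroup G) = Nat.card (P : Subgroup G) at hPQ
  rw [hidx, h3, ← hPQ, show normalizer (Q : Set G) = normalizer ((Q : Subgroup G) : Set G) from rfl]
  ring

/-- The automizer of the Sylow 2-subgroup has prime power order. -/
theorem Setup.automizer_primePow (h : Setup G 2 q r) [Fact (Nat.Prime 2)] (S : Sylow 2 G)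
    (hne : (S : Subgroup G).relIndex (normalizer ((S : Subgroup G) : Set G)) ≠ 1) :
    ∃ u n : ℕ, u.Prime ∧ 1 ≤ n ∧
      (S : Subgroup G).relIndex (normalizer ((S : Subgroup G) : Set G)) = u ^ n := by
  have hC := h.centSylow
  set N := normalizer ((S : Subgroup G) : Set G)
  let φ : N →* MulAut (S : Subgroup G) := (S : Subgroup G).normalizerMonoidHom
  have hker : φ.ker = (S : Subgroup G).subgroupOf N := by
    rw [Subgroup.normalizerMonoidHom_ker]
    congr 1
    refine le_antisymm (fun y hy => ?_) (fun y hy => ?_)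
    · obtain ⟨v, hv, hv1⟩ : ∃ v ∈ (S : Subgroup G), v ≠ 1 := by
        have hSne : (S : Subgroup G) ≠ ⊥ := fun hb => by
          have := S.not_dvd_index
          rw [hb, index_bot] at this
          exact this h.hp
        obtain ⟨⟨v, hv⟩, hv1⟩ := Subgroup.ne_bot_iff_exists_ne_one.mp hSne
        exact ⟨v, hv, fun h' => hv1 (Subtype.ext h')⟩
      rw [← centralizer_eq_sylow_two hC S hv hv1, mem_centralizer_singleton_iff]
      exact ((mem_centralizer_iff.mp hy) v hv).symm
    · rw [mem_centralizer_iff]
      exact fun v hv => commute_of_sylow_two hC S hv hy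
  haveI hE0 : Finite φ.range := inferInstance
  have hE : Nat.card φ.range = (S : Subgroup G).relIndex N := by
    rw [← index_ker, hker]; rfl
  haveI : Nontrivial φ.range := by
    rw [← Finite.one_lt_card_iff_nontrivial, hE]
    have : (S : Subgroup G).relIndex N ≠ 0 := index_ne_zero_of_finite
    omega
  haveI : Nontrivial (S : Subgroup G) := by
    rw [nontrivial_iff_ne_bot]
    intro hb
    have := S.not_dvd_index
    rw [hb, index_bot] at this
    exact this h.hp
  letI : CommGroup (S : Subgroup G) :=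
    { (inferInstance : Group (S : Subgroup G)) with
      mul_comm := fun a b => Subtype.ext (commute_of_sylow_two hC S a.2 b.2) }
  have hEd : Nat.card φ.range ∣ q ^ (Nat.card G).factorization q * r ^ (Nat.card G).factorization r := by
    rw [hE]
    have h1 : (S : Subgroup G).relIndex N ∣ (S : Subgroup G).index :=
      Subgroup.relIndex_dvd_index_of_le le_normalizer
    have h2 := (S : Subgroup G).card_mul_index
    rw [S.card_eq_multiplicity] at h2
    rw [h.card_eq] at h2 ⊢
    have h3 : (S : Subgroup G).index =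
        q ^ (Nat.card G).factorization q * r ^ (Nat.card G).factorization r := by
      have := h.card_eq
      exact Nat.eq_of_mul_eq_mul_left (pow_pos two_pos _)
        (by rw [← S.card_eq_multiplicity, (S : Subgroup G).card_mul_index, S.card_eq_multiplicity, ← this])
    rw [← h.card_eq]
    rwa [h3] at h1
  haveI : Group.IsSolvable φ.range := isSolvable_of_two_primes h.qp h.rp h.qr fun s hs hd => by
    rcases hs.dvd_mul.mp (hd.trans hEd) with e | e
    · exact Or.inl ((Nat.prime_dvd_prime_iff_eq hs h.qp).mp (hs.dvd_of_dvd_pow e))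
    · exact Or.inr ((Nat.prime_dvd_prime_iff_eq hs h.rp).mp (hs.dvd_of_dvd_pow e))
  refine Exists.elim (exists_prime_of_fpf (M := (S : Subgroup G)) (E := φ.range)
    ?hprime ?hfix ?hcop) ?main
  case main =>
    rintro u ⟨hu, hup⟩
    haveI := Fact.mk hu
    obtain ⟨n, hn⟩ := IsPGroup.iff_card.mp hup
    refine ⟨u, n, hu, ?_, by rw [← hE, hn]⟩
    by_contra h0
    have : n = 0 := by omega
    subst this
    rw [hE, pow_zero] at hn
    exact hne hn
  · rintro ⟨_, g, rfl⟩ hg
    have hg1 : (g : G) ≠ 1 := fun e => hg (Subtype.ext (by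
      have : g = 1 := Subtype.ext e
      simp [this]))
    have hdvd : orderOf (⟨φ g, g, rfl⟩ : φ.range) ∣ orderOf (g : G) := by
      rw [← Subgroup.orderOf_coe, Subgroup.orderOf_coe g]
      exact orderOf_map_dvd φ g
    have hp := (hC _ hg1).1
    rcases (Nat.dvd_prime hp).mp hdvd with e | e
    · exact absurd (orderOf_eq_one_iff.mp e) hg
    · rw [e]; exact hp
  · rintro ⟨_, g, rfl⟩ hg v hv
    by_contra hv1
    apply hg
    have hconj : (g : G) * v * (g : G)⁻¹ = v := congrArg Subtype.val hv
    have hgS : (g : G) ∈ (S : Subgroup G) := by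
      rw [← centralizer_eq_sylow_two hC S v.2 (fun e => hv1 (Subtype.ext e)),
        mem_centralizer_singleton_iff]
      exact mul_inv_eq_iff_eq_mul.mp hconj
    have : g ∈ φ.ker := by rw [hker]; exact hgS
    exact Subtype.ext this
  · refine Nat.Coprime.of_dvd_left hEd ?_
    rw [S.card_eq_multiplicity]
    exact Nat.Coprime.mul_left
      (Nat.Coprime.pow _ _ ((Nat.coprime_primes h.qp Nat.prime_two).mpr h.pq.symm))
      (Nat.Coprime.pow _ _ ((Nat.coprime_primes h.rp Nat.prime_two).mpr h.pr.symm))

theorem Setup.iso_alt (h : Setup G 2 q r) (hreal : IsRealPrime G q) :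
    Nonempty (G ≃* alternatingGroup (Fin 5)) := by
  classical
  haveI := Fact.mk Nat.prime_two
  haveI := Fact.mk h.qp
  haveI := Fact.mk h.rp
  have hC := h.centSylow
  obtain ⟨S⟩ := (inferInstance : Nonempty (Sylow 2 G))
  obtain ⟨Q⟩ := (inferInstance : Nonempty (Sylow q G))
  obtain ⟨R⟩ := (inferInstance : Nonempty (Sylow r G))
  set k := (Nat.card G).factorization 2 with hk
  set a := (Nat.card G).factorization q with ha
  set b := (Nat.card G).factorization r with hb
  have ha1 : 1 ≤ a := h.qp.factorization_pos_of_dvd Nat.card_pos.ne' h.hq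
  have hb1 : 1 ≤ b := h.rp.factorization_pos_of_dvd Nat.card_pos.ne' h.hr
  have hk1 : 1 ≤ k := Nat.prime_two.factorization_pos_of_dvd Nat.card_pos.ne' h.hp
  have hg : Nat.card G = 2 ^ k * (q ^ a * r ^ b) := h.card_eq
  have hS : Nat.card (S : Subgroup G) = 2 ^ k := S.card_eq_multiplicity
  have hQ : Nat.card (Q : Subgroup G) = q ^ a := Q.card_eq_multiplicity
  have hR : Nat.card (R : Subgroup G) = r ^ b := R.card_eq_multiplicity
  have hQi : (Q : Subgroup G).index = 2 ^ k * r ^ b := Nat.eq_of_mul_eq_mul_left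
    (pow_pos h.qp.pos a) (by rw [← hQ, card_mul_index, hg, hQ]; ring)
  have hRi : (R : Subgroup G).index = 2 ^ k * q ^ a := Nat.eq_of_mul_eq_mul_left
    (pow_pos h.rp.pos b) (by rw [← hR, card_mul_index, hg, hR]; ring)
  have hSi : (S : Subgroup G).index = q ^ a * r ^ b := Nat.eq_of_mul_eq_mul_left
    (pow_pos two_pos k) (by rw [← hS, card_mul_index, hg, hS])
  set N := normalizer ((S : Subgroup G) : Set G) with hN
  set e := (S : Subgroup G).relIndex N with he
  have hn : N.index * e = q ^ a * r ^ b := by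
    rw [← hSi, mul_comm, he, relIndex_mul_index le_normalizer]
  -- at least four elements in `S`
  have hk2 : 2 ≤ k := by
    by_contra hlt
    have hk' : k = 1 := by omega
    refine h.not_complement h.hp
      (CfsgLib.Transfer.hasNormalPComplement_of_normalizer_le_centralizer S fun g hg => ?_)
    rw [mem_centralizer_iff]
    intro v hv
    by_cases hv1 : v = 1
    · simp [hv1]
    have hgv : g * v * g⁻¹ ∈ (S : Subgroup G) := (mem_normalizer_iff.mp hg v).mp hv
    have hgv1 : g * v * g⁻¹ ≠ 1 := fun e' => hv1 (conj_eq_one_iff.mp e')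
    have hzp : zpowers v = (S : Subgroup G) := eq_of_le_of_card_ge (zpowers_le.mpr hv) (by
      rw [hS, hk', Nat.card_zpowers, orderOf_of_mem_pgroup hC S.2 hv hv1]; norm_num)
    rw [← hzp, mem_zpowers_iff] at hgv
    obtain ⟨i, hi⟩ := hgv
    have hvv : v ^ (2 : ℤ) = 1 := by
      rw [zpow_two]; exact mul_self_of_sylow_two hC S hv
    rcases Int.even_or_odd' i with ⟨j, rfl | rfl⟩
    · rw [zpow_mul, hvv, one_zpow] at hi; exact absurd hi.symm hgv1
    · rw [zpow_add, zpow_mul, hvv, one_zpow, one_mul, zpow_one] at hi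
      exact (mul_inv_eq_iff_eq_mul.mp hi.symm).symm
  obtain ⟨w, hw⟩ : ∃ w, 2 ^ k = w + 1 := ⟨2 ^ k - 1, by have := Nat.one_le_two_pow (n := k); omega⟩
  have hw3 : 3 ≤ w := by
    have : 4 ≤ 2 ^ k := le_trans (by norm_num) (Nat.pow_le_pow_right two_pos hk2)
    omega
  -- involutions
  set I := Nat.card {x : G // orderOf x = 2} with hI
  have hI' : I = N.index * w := by
    rw [hI, card_orderOf_eq hC S, S.card_eq_index_normalizer]
    congr 1
    have : center (S : Subgroup G) = ⊤ := top_unique fun x _ => mem_center_iff.mpr fun y =>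
      Subtype.ext (commute_of_sylow_two hC S y.2 x.2)
    rw [this, card_top, hS]; omega
  have hdiv : Nat.card G ∣ I * 2 ^ k := card_dvd_card_orderOf_mul 2 _ fun x hx => by
    obtain ⟨T, hT⟩ := exists_sylow_eq hC Nat.prime_two hx
    rw [← hT]; exact T.card_eq_multiplicity
  have hew : e ∣ w := by
    have hpos : 0 < N.index := Nat.pos_of_ne_zero index_ne_zero_of_finite
    have h1 : 2 ^ k * (N.index * e) ∣ 2 ^ k * (N.index * w) := by
      rw [hn, ← hg, ← hI', mul_comm (2 ^ k)]; exact hdiv
    exact Nat.dvd_of_mul_dvd_mul_left hpos (Nat.dvd_of_mul_dvd_mul_left (by positivity) h1)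
  obtain ⟨m, hm⟩ := hew
  have hIm : I = m * (q ^ a * r ^ b) := by rw [hI', hm, ← hn]; ring
  have hqc := h.real_count (fun e' => h.pq e'.symm) hreal Q
  rw [hQi, hQ] at hqc
  have hpairs := h.pairs S Q R
  rw [if_pos hreal, hQ, hS, ← hI] at hpairs
  by_cases hrr : IsRealPrime G r
  swap
  · -- one real prime
    exfalso
    rw [if_neg hrr, mul_zero, add_zero] at hpairs
    refine one_real_false h.qp (fun e' => h.pq e'.symm) ha1 h.rp (fun e' => h.pr e'.symm) hb1 hk2
      (k := k) (m := m) (e := e) (by rw [hw, hm]; ring) ⟨N.index, by rw [← hn]; ring⟩ ?_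
    have h1 : m * e = w := by rw [hm]; ring
    rw [h1, ← hIm]
    -- cancel the factor `q ^ a * r ^ b`
    refine Nat.eq_of_mul_eq_mul_left (show 0 < q ^ a * r ^ b by positivity [h.qp.pos, h.rp.pos]) ?_
    have hIw : w ≤ I := by
      rw [hI']; exact Nat.le_mul_of_pos_left _ (Nat.pos_of_ne_zero index_ne_zero_of_finite)
    obtain ⟨d, hd⟩ := Nat.exists_eq_add_of_le hIw
    obtain ⟨c, hc⟩ : ∃ c, q ^ a = c + 1 := ⟨q ^ a - 1, by have := pow_pos h.qp.pos a; omega⟩
    rw [show I - w = d by omega]
    rw [show q ^ a - 1 = c by omega] at hqc ⊢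
    have e1 : 2 ^ k - 2 = w - 1 := by omega
    obtain ⟨w', hw'⟩ : ∃ w', w = w' + 1 := ⟨w - 1, by omega⟩
    rw [e1, show w - 1 = w' by omega] at hpairs
    set Nq := Nat.card {x : G // orderOf x = q}
    have e2 : I * d = Nq * q ^ a := by
      have : I * I = I + I * w' + I * d := by
        nth_rewrite 2 [hd]; rw [hw']; ring
      omega
    calc q ^ a * r ^ b * (2 * m * d) = 2 * (I * d) := by rw [hIm]; ring
      _ = q ^ a * (2 * Nq) := by rw [e2]; ring
      _ = _ := by rw [hqc]; ring
  -- both primes real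
  have hrc := h.real_count (fun e' => h.pr e'.symm) hrr R
  rw [hRi, hR] at hrc
  rw [if_pos hrr, hR] at hpairs
  have htot := h.total
  rw [← hI, hg] at htot
  set Nq := Nat.card {x : G // orderOf x = q}
  set Nr := Nat.card {x : G // orderOf x = r}
  set A := q ^ a with hA
  set B := r ^ b with hB
  have hA3 : 3 ≤ A := le_trans (by have := h.qp.two_le; have := h.pq; omega) (Nat.le_self_pow (by omega) q)
  have hB3 : 3 ≤ B := le_trans (by have := h.rp.two_le; have := h.pr; omega) (Nat.le_self_pow (by omega) r)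
  rw [hw] at hpairs hqc hrc htot
  have hJ : I = A * B := by
    obtain ⟨A', hA'⟩ := Nat.exists_eq_add_of_le (show 1 ≤ A by omega)
    obtain ⟨B', hB'⟩ := Nat.exists_eq_add_of_le (show 1 ≤ B by omega)
    rw [show A - 1 = A' by omega] at hqc
    rw [show B - 1 = B' by omega] at hrc
    obtain ⟨w', hw'⟩ := Nat.exists_eq_add_of_le (show 1 ≤ w by omega)
    rw [show w + 1 - 2 = w' by omega] at hpairs
    have hq2 : 2 * (Nq * A) = (w + 1) * (A * B) * A' := by
      rw [← mul_assoc, hqc]; ring
    have hr2 : 2 * (Nr * B) = (w + 1) * (A * B) * B' := by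
      rw [← mul_assoc, hrc]; ring
    have hne : I ≠ w := by
      intro hIw
      have : I * I = I + I * w' := by nth_rewrite 2 [hIw]; rw [hw']; ring
      have hpos : 0 < (w + 1) * (A * B) * A' := by
        have : 0 < A' := by omega
        positivity
      omega
    have key : ((I : ℤ) - w) * ((I : ℤ) - A * B) = 0 := by
      have hp' : (I : ℤ) * I = I + I * w' + Nq * A + Nr * B := by exact_mod_cast hpairs
      have ht' : (1 : ℤ) + I + Nq + Nr = (w + 1) * (A * B) := by exact_mod_cast htot
      have hq' : (2 : ℤ) * Nq = (w + 1) * B * A' := by exact_mod_cast hqc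
      have hr' : (2 : ℤ) * Nr = (w + 1) * A * B' := by exact_mod_cast hrc
      have ea : (A : ℤ) = 1 + A' := by exact_mod_cast hA'
      have eb : (B : ℤ) = 1 + B' := by exact_mod_cast hB'
      have ew : (w : ℤ) = 1 + w' := by exact_mod_cast hw'
      have hh : (2 : ℤ) * (((I : ℤ) - w) * ((I : ℤ) - A * B)) = 0 := by
        linear_combination 2 * hp' + (A : ℤ) * hq' + (B : ℤ) * hr' - (A : ℤ) * B * (2 * ht' - hq' - hr')
          - (2 : ℤ) * I * ew - (w + 1) * (A : ℤ) * B * (1 + (B : ℤ)) * ea - (w + 1) * (A : ℤ) * B * (1 + (A : ℤ)) * eb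
      linarith
    rcases mul_eq_zero.mp key with h0 | h0
    · exact absurd (by exact_mod_cast sub_eq_zero.mp h0) hne
    · exact_mod_cast sub_eq_zero.mp h0
  have heq : 2 * (A * B) + 2 = 2 ^ k * (A + B) := by
    rw [hw]
    obtain ⟨A', hA'⟩ := Nat.exists_eq_add_of_le (show 1 ≤ A by omega)
    obtain ⟨B', hB'⟩ := Nat.exists_eq_add_of_le (show 1 ≤ B by omega)
    rw [show A - 1 = A' by omega] at hqc
    rw [show B - 1 = B' by omega] at hrc
    rw [hJ] at htot
    have e1 : (w + 1) * B * A' + (w + 1) * B = (w + 1) * (A * B) := by rw [hA']; ring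
    have e2 : (w + 1) * A * B' + (w + 1) * A = (w + 1) * (A * B) := by rw [hB']; ring
    have e3 : (w + 1) * (A + B) = (w + 1) * A + (w + 1) * B := by ring
    omega
  have hm1 : m = 1 := by
    rw [hIm] at hJ
    exact Nat.eq_of_mul_eq_mul_right (by positivity) (hJ.trans (one_mul _).symm)
  have hew : e = w := by rw [hm, hm1, mul_one]
  obtain ⟨u, n, hu, hn1, hun⟩ := h.automizer_primePow S (by rw [← he, hew]; omega)
  have hdvd : u ∣ A * B := by
    rw [← hn, he, hun]; exact Dvd.dvd.mul_left (dvd_pow_self u (by omega)) _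
  -- conclude from the two possible parameter sets
  suffices key : ∀ {q r a b : ℕ}, Setup G 2 q r → IsRealPrime G q → Nat.card G = 2 ^ k * (q ^ a * r ^ b) →
      1 ≤ a → 1 ≤ b → 2 * (q ^ a * r ^ b) + 2 = 2 ^ k * (q ^ a + r ^ b) → 2 ^ k - 1 ∣ q ^ a * r ^ b →
      (∃ n, 2 ^ k - 1 = q ^ n) → Nonempty (G ≃* alternatingGroup (Fin 5)) by
    have hwd : 2 ^ k - 1 ∣ A * B := ⟨N.index, by rw [← hn, hew, hw, Nat.add_sub_cancel]; ring⟩
    have hwu : 2 ^ k - 1 = u ^ n := by rw [hw, Nat.add_sub_cancel, ← hew, he, hun]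
    rcases h.primes u hu (hdvd.trans (by rw [hg]; exact dvd_mul_left _ _)) with e' | e' | e'
    · exfalso
      subst e'
      have : 2 ∣ 2 ^ k - 1 := hwu ▸ dvd_pow_self 2 (by omega)
      have : 2 ∣ 2 ^ k := dvd_pow_self 2 (by omega)
      omega
    · subst e'
      exact key h hreal hg ha1 hb1 heq hwd ⟨n, hwu⟩
    · subst e'
      refine key h.swap hrr (by rw [hg]; ring) hb1 ha1 ?_ (by rw [mul_comm]; exact hwd) ⟨n, hwu⟩
      rw [mul_comm _ A, heq, add_comm]
  have hSN : (S : Subgroup G) ≤ N := le_normalizer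
  clear_value N
  intro q r a b h hreal hg ha1 hb1 heq hwd ⟨n', hn'⟩
  haveI := Fact.mk h.qp
  have hdvd' : 2 ^ k - 1 ∣ q ^ a := by
    refine (Nat.Coprime.dvd_of_dvd_mul_right ?_ hwd)
    rw [hn']; exact Nat.Coprime.pow _ _ ((Nat.coprime_primes h.qp h.rp).mpr h.qr)
  rcases both_real_cases h.qp (fun e' => h.pq e'.symm) ha1 h.rp (fun e' => h.pr e'.symm) hb1 hk2
    hdvd' heq with ⟨hk', hqa, hrb⟩ | ⟨hk', hqa, hrb⟩
  · rw [hk', hqa, hrb] at hg
    norm_num at hg
    have hq3 : q = 3 := (Nat.prime_dvd_prime_iff_eq h.qp Nat.prime_three).mp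
      (hqa ▸ dvd_pow_self q (by omega))
    have hr5 : r = 5 := (Nat.prime_dvd_prime_iff_eq h.rp (by norm_num)).mp
      (hrb ▸ dvd_pow_self r (by omega))
    subst hq3 hr5
    haveI : IsSimpleGroup G := isSimpleGroup_sixty h hg
    exact Cfsg.Agent.S0494.result hg
  · exfalso
    have hw7 : w = 7 := by rw [hk'] at hw; norm_num at hw; omega
    have hq7 : q = 7 := (Nat.prime_dvd_prime_iff_eq h.qp (by norm_num)).mp
      (hqa ▸ dvd_pow_self q (by omega))
    have hr3 : r = 3 := (Nat.prime_dvd_prime_iff_eq h.rp Nat.prime_three).mp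
      (Nat.Prime.dvd_of_dvd_pow h.rp (show r ∣ 3 ^ 2 by norm_num; rw [← hrb]; exact dvd_pow_self r (by omega)))
    refine false_of_504 h.centSylow (fun g hg => ?_) S (by rw [hS, hk']; norm_num)
      (by rw [hg, hk', hqa, hrb]; norm_num) ?_
      (fun x hx => ?_)
    · rcases h.all g hg with e' | e' | e' <;> simp [e', hq7, hr3]
    · have h1 : e = 7 := by rw [hew, hw7]
      have h2 := ((S : Subgroup G).subgroupOf N).card_mul_index
      rw [Nat.card_congr (Subgroup.subgroupOfEquivOfLe hSN).toEquiv, hS, hk'] at h2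
      rw [show ((S : Subgroup G).subgroupOf N).index = 7 from h1, hN] at h2
      omega
    · obtain ⟨t, ht⟩ := h.real_all hreal x (hx.trans hq7.symm)
      exact ⟨t, ht.ordt, ht.inv⟩

end CfsgLib.FourOrbit
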